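import Cfsg.Agent.Comp.Util
import Cfsg.Agent.Dce.Th.ChkC0
import Cfsg.Agent.Dce.Th.ChkC1
import Cfsg.Agent.Dce.Th.ChkC2
import Cfsg.Agent.Dce.Th.ChkC3

set_option autoImplicit false
set_option maxRecDepth 1000000
set_option maxHeartbeats 0
set_option Elab.async false

namespace CF.Dce.Th
open CF.Comp

theorem cok : ∀ n < 9953, ck n = true := by
  have h : ∀ i < 0, ck i = true := by simp
  have h := forall_lt_add h (allFrom_iff.1 cok_0)
  have h := forall_lt_add h (allFrom_iff.1 cok_333)
  have h := forall_lt_add h (allFrom_iff.1 cok_588)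
  have h := forall_lt_add h (allFrom_iff.1 cok_798)
  have h := forall_lt_add h (allFrom_iff.1 cok_984)
  have h := forall_lt_add h (allFrom_iff.1 cok_1156)
  have h := forall_lt_add h (allFrom_iff.1 cok_1317)
  have h := forall_lt_add h (allFrom_iff.1 cok_1464)
  have h := forall_lt_add h (allFrom_iff.1 cok_1608)
  have h := forall_lt_add h (allFrom_iff.1 cok_1752)
  have h := forall_lt_add h (allFrom_iff.1 cok_1896)
  have h := forall_lt_add h (allFrom_iff.1 cok_2040)
  have h := forall_lt_add h (allFrom_iff.1 cok_2181)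
  have h := forall_lt_add h (allFrom_iff.1 cok_2321)
  have h := forall_lt_add h (allFrom_iff.1 cok_2461)
  have h := forall_lt_add h (allFrom_iff.1 cok_2595)
  have h := forall_lt_add h (allFrom_iff.1 cok_2723)
  have h := forall_lt_add h (allFrom_iff.1 cok_2850)
  have h := forall_lt_add h (allFrom_iff.1 cok_2982)
  have h := forall_lt_add h (allFrom_iff.1 cok_3118)
  have h := forall_lt_add h (allFrom_iff.1 cok_3270)
  have h := forall_lt_add h (allFrom_iff.1 cok_3415)
  have h := forall_lt_add h (allFrom_iff.1 cok_3572)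
  have h := forall_lt_add h (allFrom_iff.1 cok_3722)
  have h := forall_lt_add h (allFrom_iff.1 cok_3857)
  have h := forall_lt_add h (allFrom_iff.1 cok_3987)
  have h := forall_lt_add h (allFrom_iff.1 cok_4120)
  have h := forall_lt_add h (allFrom_iff.1 cok_4265)
  have h := forall_lt_add h (allFrom_iff.1 cok_4385)
  have h := forall_lt_add h (allFrom_iff.1 cok_4516)
  have h := forall_lt_add h (allFrom_iff.1 cok_4638)
  have h := forall_lt_add h (allFrom_iff.1 cok_4767)
  have h := forall_lt_add h (allFrom_iff.1 cok_4898)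
  have h := forall_lt_add h (allFrom_iff.1 cok_5019)
  have h := forall_lt_add h (allFrom_iff.1 cok_5138)
  have h := forall_lt_add h (allFrom_iff.1 cok_5251)
  have h := forall_lt_add h (allFrom_iff.1 cok_5412)
  have h := forall_lt_add h (allFrom_iff.1 cok_5562)
  have h := forall_lt_add h (allFrom_iff.1 cok_5712)
  have h := forall_lt_add h (allFrom_iff.1 cok_5862)
  have h := forall_lt_add h (allFrom_iff.1 cok_6019)
  have h := forall_lt_add h (allFrom_iff.1 cok_6162)
  have h := forall_lt_add h (allFrom_iff.1 cok_6305)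
  have h := forall_lt_add h (allFrom_iff.1 cok_6447)
  have h := forall_lt_add h (allFrom_iff.1 cok_6576)
  have h := forall_lt_add h (allFrom_iff.1 cok_6712)
  have h := forall_lt_add h (allFrom_iff.1 cok_6848)
  have h := forall_lt_add h (allFrom_iff.1 cok_6984)
  have h := forall_lt_add h (allFrom_iff.1 cok_7120)
  have h := forall_lt_add h (allFrom_iff.1 cok_7256)
  have h := forall_lt_add h (allFrom_iff.1 cok_7392)
  have h := forall_lt_add h (allFrom_iff.1 cok_7521)
  have h := forall_lt_add h (allFrom_iff.1 cok_7657)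
  have h := forall_lt_add h (allFrom_iff.1 cok_7786)
  have h := forall_lt_add h (allFrom_iff.1 cok_7915)
  have h := forall_lt_add h (allFrom_iff.1 cok_8047)
  have h := forall_lt_add h (allFrom_iff.1 cok_8181)
  have h := forall_lt_add h (allFrom_iff.1 cok_8314)
  have h := forall_lt_add h (allFrom_iff.1 cok_8443)
  have h := forall_lt_add h (allFrom_iff.1 cok_8564)
  have h := forall_lt_add h (allFrom_iff.1 cok_8693)
  have h := forall_lt_add h (allFrom_iff.1 cok_8814)
  have h := forall_lt_add h (allFrom_iff.1 cok_8935)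
  have h := forall_lt_add h (allFrom_iff.1 cok_9056)
  have h := forall_lt_add h (allFrom_iff.1 cok_9170)
  have h := forall_lt_add h (allFrom_iff.1 cok_9291)
  have h := forall_lt_add h (allFrom_iff.1 cok_9413)
  have h := forall_lt_add h (allFrom_iff.1 cok_9530)
  have h := forall_lt_add h (allFrom_iff.1 cok_9637)
  have h := forall_lt_add h (allFrom_iff.1 cok_9753)
  have h := forall_lt_add h (allFrom_iff.1 cok_9857)
  exact h

end CF.Dce.Th
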