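import Cfsg.Agent.Dce.Defs

set_option autoImplicit false
set_option maxRecDepth 1000000
set_option maxHeartbeats 0
set_option Elab.async false

namespace CF.Dce.Th
open CF.Comp

noncomputable def rels : List (List Nat) := [[(nat_lit 1), (nat_lit 1)],
  [(nat_lit 3), (nat_lit 3)],
  [(nat_lit 5), (nat_lit 5)],
  [(nat_lit 7), (nat_lit 7)],
  [(nat_lit 9), (nat_lit 9)],
  [(nat_lit 1), (nat_lit 3), (nat_lit 1), (nat_lit 3), (nat_lit 1), (nat_lit 3)],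
  [(nat_lit 1), (nat_lit 9), (nat_lit 1), (nat_lit 9)],
  [(nat_lit 3), (nat_lit 5), (nat_lit 3), (nat_lit 5), (nat_lit 3), (nat_lit 5)],
  [(nat_lit 3), (nat_lit 7), (nat_lit 3), (nat_lit 7)],
  [(nat_lit 3), (nat_lit 9), (nat_lit 3), (nat_lit 9)],
  [(nat_lit 1), (nat_lit 8), (nat_lit 6), (nat_lit 8), (nat_lit 6), (nat_lit 8), (nat_lit 6), (nat_lit 8), (nat_lit 6)],
  [(nat_lit 5), (nat_lit 9), (nat_lit 5), (nat_lit 9)],
  [(nat_lit 7), (nat_lit 9), (nat_lit 7), (nat_lit 9), (nat_lit 7), (nat_lit 9)],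
  [(nat_lit 3), (nat_lit 5), (nat_lit 7), (nat_lit 9), (nat_lit 3), (nat_lit 5), (nat_lit 7), (nat_lit 9), (nat_lit 3), (nat_lit 5), (nat_lit 7), (nat_lit 9), (nat_lit 3), (nat_lit 5), (nat_lit 7), (nat_lit 9), (nat_lit 3), (nat_lit 5), (nat_lit 7), (nat_lit 9), (nat_lit 3), (nat_lit 5), (nat_lit 7), (nat_lit 9), (nat_lit 3), (nat_lit 5), (nat_lit 7), (nat_lit 9), (nat_lit 3), (nat_lit 5), (nat_lit 7), (nat_lit 9)],
  [(nat_lit 11), (nat_lit 11), (nat_lit 11), (nat_lit 11), (nat_lit 11), (nat_lit 11), (nat_lit 11)],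
  [(nat_lit 12), (nat_lit 2), (nat_lit 11), (nat_lit 1)],
  [(nat_lit 12), (nat_lit 4), (nat_lit 11), (nat_lit 3)],
  [(nat_lit 12), (nat_lit 6), (nat_lit 11), (nat_lit 5)],
  [(nat_lit 11), (nat_lit 7), (nat_lit 11), (nat_lit 7)],
  [(nat_lit 10), (nat_lit 12), (nat_lit 9), (nat_lit 12), (nat_lit 12), (nat_lit 10), (nat_lit 11), (nat_lit 11), (nat_lit 11)],
  [(nat_lit 13), (nat_lit 13), (nat_lit 13)],
  [(nat_lit 14), (nat_lit 2), (nat_lit 13), (nat_lit 1)],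
  [(nat_lit 14), (nat_lit 4), (nat_lit 13), (nat_lit 3)],
  [(nat_lit 14), (nat_lit 6), (nat_lit 13), (nat_lit 5)],
  [(nat_lit 14), (nat_lit 8), (nat_lit 13), (nat_lit 7)],
  [(nat_lit 14), (nat_lit 10), (nat_lit 13), (nat_lit 9)],
  [(nat_lit 14), (nat_lit 11), (nat_lit 13), (nat_lit 12), (nat_lit 12)],
  [(nat_lit 15), (nat_lit 15), (nat_lit 6), (nat_lit 2)],
  [(nat_lit 16), (nat_lit 2), (nat_lit 15), (nat_lit 1)],
  [(nat_lit 16), (nat_lit 6), (nat_lit 15), (nat_lit 5)],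
  [(nat_lit 16), (nat_lit 10), (nat_lit 15), (nat_lit 9)],
  [(nat_lit 7), (nat_lit 9), (nat_lit 16), (nat_lit 7), (nat_lit 15), (nat_lit 7), (nat_lit 9), (nat_lit 16), (nat_lit 7), (nat_lit 15)],
  [(nat_lit 16), (nat_lit 4), (nat_lit 6), (nat_lit 2), (nat_lit 3), (nat_lit 15), (nat_lit 4), (nat_lit 1), (nat_lit 5), (nat_lit 3), (nat_lit 10)],
  [(nat_lit 8), (nat_lit 16), (nat_lit 7), (nat_lit 4), (nat_lit 6), (nat_lit 2), (nat_lit 3), (nat_lit 8), (nat_lit 15), (nat_lit 7), (nat_lit 4), (nat_lit 1), (nat_lit 5), (nat_lit 3), (nat_lit 6), (nat_lit 10), (nat_lit 8), (nat_lit 16), (nat_lit 7), (nat_lit 4), (nat_lit 6), (nat_lit 2), (nat_lit 3), (nat_lit 10), (nat_lit 16)],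
  [(nat_lit 16), (nat_lit 13), (nat_lit 15), (nat_lit 13)],
  [(nat_lit 10), (nat_lit 12), (nat_lit 12), (nat_lit 16), (nat_lit 11), (nat_lit 11), (nat_lit 9), (nat_lit 12), (nat_lit 12), (nat_lit 15), (nat_lit 11), (nat_lit 11)],
  [(nat_lit 1), (nat_lit 5), (nat_lit 12), (nat_lit 16), (nat_lit 12), (nat_lit 16), (nat_lit 12), (nat_lit 16)],
  [(nat_lit 1), (nat_lit 5), (nat_lit 12), (nat_lit 16), (nat_lit 11), (nat_lit 15), (nat_lit 12), (nat_lit 16), (nat_lit 11), (nat_lit 15), (nat_lit 12), (nat_lit 16), (nat_lit 11), (nat_lit 15), (nat_lit 12), (nat_lit 16), (nat_lit 11), (nat_lit 15)],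
  [(nat_lit 7), (nat_lit 12), (nat_lit 12), (nat_lit 15), (nat_lit 11), (nat_lit 11), (nat_lit 7), (nat_lit 12), (nat_lit 12), (nat_lit 15), (nat_lit 11), (nat_lit 11), (nat_lit 7), (nat_lit 12), (nat_lit 12), (nat_lit 15), (nat_lit 11), (nat_lit 11), (nat_lit 7), (nat_lit 12), (nat_lit 12), (nat_lit 15), (nat_lit 10), (nat_lit 8), (nat_lit 6), (nat_lit 7), (nat_lit 9), (nat_lit 11), (nat_lit 11), (nat_lit 11), (nat_lit 10), (nat_lit 8), (nat_lit 6), (nat_lit 7), (nat_lit 9), (nat_lit 12), (nat_lit 8), (nat_lit 6), (nat_lit 7), (nat_lit 6), (nat_lit 2)]]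
noncomputable def R0 : List (List Nat) := [[(nat_lit 1), (nat_lit 1)],
  [(nat_lit 3), (nat_lit 3)],
  [(nat_lit 5), (nat_lit 5)],
  [(nat_lit 7), (nat_lit 7)],
  [(nat_lit 9), (nat_lit 9)],
  [(nat_lit 1), (nat_lit 3), (nat_lit 1), (nat_lit 3), (nat_lit 1), (nat_lit 3)],
  [(nat_lit 1), (nat_lit 9), (nat_lit 1), (nat_lit 9)],
  [(nat_lit 3), (nat_lit 5), (nat_lit 3), (nat_lit 5), (nat_lit 3), (nat_lit 5)],
  [(nat_lit 3), (nat_lit 7), (nat_lit 3), (nat_lit 7)],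
  [(nat_lit 3), (nat_lit 9), (nat_lit 3), (nat_lit 9)],
  [(nat_lit 1), (nat_lit 8), (nat_lit 6), (nat_lit 8), (nat_lit 6), (nat_lit 8), (nat_lit 6), (nat_lit 8), (nat_lit 6)],
  [(nat_lit 5), (nat_lit 9), (nat_lit 5), (nat_lit 9)],
  [(nat_lit 7), (nat_lit 9), (nat_lit 7), (nat_lit 9), (nat_lit 7), (nat_lit 9)],
  [(nat_lit 3), (nat_lit 5), (nat_lit 7), (nat_lit 9), (nat_lit 3), (nat_lit 5), (nat_lit 7), (nat_lit 9), (nat_lit 3), (nat_lit 5), (nat_lit 7), (nat_lit 9), (nat_lit 3), (nat_lit 5), (nat_lit 7), (nat_lit 9), (nat_lit 3), (nat_lit 5), (nat_lit 7), (nat_lit 9), (nat_lit 3), (nat_lit 5), (nat_lit 7), (nat_lit 9), (nat_lit 3), (nat_lit 5), (nat_lit 7), (nat_lit 9), (nat_lit 3), (nat_lit 5), (nat_lit 7), (nat_lit 9)],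
  [(nat_lit 11), (nat_lit 11), (nat_lit 11), (nat_lit 11), (nat_lit 11), (nat_lit 11), (nat_lit 11)],
  [(nat_lit 12), (nat_lit 2), (nat_lit 11), (nat_lit 1)],
  [(nat_lit 12), (nat_lit 4), (nat_lit 11), (nat_lit 3)],
  [(nat_lit 12), (nat_lit 6), (nat_lit 11), (nat_lit 5)],
  [(nat_lit 11), (nat_lit 7), (nat_lit 11), (nat_lit 7)],
  [(nat_lit 10), (nat_lit 12), (nat_lit 9), (nat_lit 12), (nat_lit 12), (nat_lit 10), (nat_lit 11), (nat_lit 11), (nat_lit 11)],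
  [(nat_lit 13), (nat_lit 13), (nat_lit 13)],
  [(nat_lit 14), (nat_lit 2), (nat_lit 13), (nat_lit 1)],
  [(nat_lit 14), (nat_lit 4), (nat_lit 13), (nat_lit 3)],
  [(nat_lit 14), (nat_lit 6), (nat_lit 13), (nat_lit 5)],
  [(nat_lit 14), (nat_lit 8), (nat_lit 13), (nat_lit 7)],
  [(nat_lit 14), (nat_lit 10), (nat_lit 13), (nat_lit 9)],
  [(nat_lit 14), (nat_lit 11), (nat_lit 13), (nat_lit 12), (nat_lit 12)]]
noncomputable def rW : List Nat := [(nat_lit 7), (nat_lit 12), (nat_lit 9), (nat_lit 5), (nat_lit 7), (nat_lit 12), (nat_lit 9), (nat_lit 5), (nat_lit 7), (nat_lit 12), (nat_lit 9), (nat_lit 5), (nat_lit 7), (nat_lit 12), (nat_lit 9), (nat_lit 5), (nat_lit 7), (nat_lit 12), (nat_lit 9), (nat_lit 5), (nat_lit 7), (nat_lit 12), (nat_lit 9), (nat_lit 5), (nat_lit 7), (nat_lit 12), (nat_lit 9), (nat_lit 5), (nat_lit 7), (nat_lit 12), (nat_lit 9), (nat_lit 5), (nat_lit 7), (nat_lit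 12), (nat_lit 9), (nat_lit 5)]
noncomputable def H1 : List (List Nat) := [[(nat_lit 1)],
  [(nat_lit 3)],
  [(nat_lit 5)],
  [(nat_lit 7)],
  [(nat_lit 9)],
  [(nat_lit 11)],
  [(nat_lit 13)]]
noncomputable def H2 : List (List Nat) := [[(nat_lit 1)],
  [(nat_lit 3)],
  [(nat_lit 5)],
  [(nat_lit 7)],
  [(nat_lit 9)],
  [(nat_lit 13)]]
noncomputable def H3 : List (List Nat) := [[(nat_lit 1)],
  [(nat_lit 3)],
  [(nat_lit 9)],
  [(nat_lit 13)]]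
noncomputable def H0 : List (List Nat) := [[(nat_lit 1)],
  [(nat_lit 3)],
  [(nat_lit 5)],
  [(nat_lit 7)],
  [(nat_lit 9)],
  [(nat_lit 11)]]
noncomputable def R2 : List (List Nat) := [[(nat_lit 1), (nat_lit 1)],
  [(nat_lit 3), (nat_lit 3)],
  [(nat_lit 5), (nat_lit 5)],
  [(nat_lit 7), (nat_lit 7)],
  [(nat_lit 9), (nat_lit 9)],
  [(nat_lit 1), (nat_lit 3), (nat_lit 1), (nat_lit 3), (nat_lit 1), (nat_lit 3)],
  [(nat_lit 1), (nat_lit 9), (nat_lit 1), (nat_lit 9)],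
  [(nat_lit 3), (nat_lit 5), (nat_lit 3), (nat_lit 5), (nat_lit 3), (nat_lit 5)],
  [(nat_lit 3), (nat_lit 7), (nat_lit 3), (nat_lit 7)],
  [(nat_lit 3), (nat_lit 9), (nat_lit 3), (nat_lit 9)],
  [(nat_lit 1), (nat_lit 8), (nat_lit 6), (nat_lit 8), (nat_lit 6), (nat_lit 8), (nat_lit 6), (nat_lit 8), (nat_lit 6)],
  [(nat_lit 5), (nat_lit 9), (nat_lit 5), (nat_lit 9)],
  [(nat_lit 7), (nat_lit 9), (nat_lit 7), (nat_lit 9), (nat_lit 7), (nat_lit 9)],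
  [(nat_lit 3), (nat_lit 5), (nat_lit 7), (nat_lit 9), (nat_lit 3), (nat_lit 5), (nat_lit 7), (nat_lit 9), (nat_lit 3), (nat_lit 5), (nat_lit 7), (nat_lit 9), (nat_lit 3), (nat_lit 5), (nat_lit 7), (nat_lit 9), (nat_lit 3), (nat_lit 5), (nat_lit 7), (nat_lit 9), (nat_lit 3), (nat_lit 5), (nat_lit 7), (nat_lit 9), (nat_lit 3), (nat_lit 5), (nat_lit 7), (nat_lit 9), (nat_lit 3), (nat_lit 5), (nat_lit 7), (nat_lit 9)],
  [(nat_lit 13), (nat_lit 13), (nat_lit 13)],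
  [(nat_lit 14), (nat_lit 2), (nat_lit 13), (nat_lit 1)],
  [(nat_lit 14), (nat_lit 4), (nat_lit 13), (nat_lit 3)],
  [(nat_lit 14), (nat_lit 6), (nat_lit 13), (nat_lit 5)],
  [(nat_lit 14), (nat_lit 8), (nat_lit 13), (nat_lit 7)],
  [(nat_lit 14), (nat_lit 10), (nat_lit 13), (nat_lit 9)]]
noncomputable def R3 : List (List Nat) := [[(nat_lit 1), (nat_lit 1)],
  [(nat_lit 3), (nat_lit 3)],
  [(nat_lit 9), (nat_lit 9)],
  [(nat_lit 1), (nat_lit 3), (nat_lit 1), (nat_lit 3), (nat_lit 1), (nat_lit 3)],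
  [(nat_lit 1), (nat_lit 9), (nat_lit 1), (nat_lit 9)],
  [(nat_lit 3), (nat_lit 9), (nat_lit 3), (nat_lit 9)],
  [(nat_lit 13), (nat_lit 13), (nat_lit 13)],
  [(nat_lit 14), (nat_lit 2), (nat_lit 13), (nat_lit 1)],
  [(nat_lit 14), (nat_lit 4), (nat_lit 13), (nat_lit 3)],
  [(nat_lit 14), (nat_lit 10), (nat_lit 13), (nat_lit 9)]]
noncomputable def RC : List (List Nat) := [[(nat_lit 7), (nat_lit 12), (nat_lit 9), (nat_lit 5), (nat_lit 7), (nat_lit 12), (nat_lit 9), (nat_lit 5), (nat_lit 7), (nat_lit 12), (nat_lit 9), (nat_lit 5), (nat_lit 7), (nat_lit 12), (nat_lit 9), (nat_lit 5), (nat_lit 7), (nat_lit 12), (nat_lit 9), (nat_lit 5), (nat_lit 7), (nat_lit 12), (nat_lit 9), (nat_lit 5), (nat_lit 7), (nat_lit 12), (nat_lit 9), (nat_lit 5), (nat_lit 7), (nat_lit 12), (nat_lit 9), (nat_lit 5), (nat_lit 7), (nat_lit 12), (nat_lit 9), (nat_lit 5)],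
  [(nat_lit 1), (nat_lit 1)],
  [(nat_lit 5), (nat_lit 5)],
  [(nat_lit 7), (nat_lit 7)],
  [(nat_lit 9), (nat_lit 9)],
  [(nat_lit 1), (nat_lit 9), (nat_lit 1), (nat_lit 9)],
  [(nat_lit 1), (nat_lit 8), (nat_lit 6), (nat_lit 8), (nat_lit 6), (nat_lit 8), (nat_lit 6), (nat_lit 8), (nat_lit 6)],
  [(nat_lit 5), (nat_lit 9), (nat_lit 5), (nat_lit 9)],
  [(nat_lit 7), (nat_lit 9), (nat_lit 7), (nat_lit 9), (nat_lit 7), (nat_lit 9)],
  [(nat_lit 11), (nat_lit 11), (nat_lit 11), (nat_lit 11), (nat_lit 11), (nat_lit 11), (nat_lit 11)],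
  [(nat_lit 12), (nat_lit 2), (nat_lit 11), (nat_lit 1)],
  [(nat_lit 12), (nat_lit 6), (nat_lit 11), (nat_lit 5)],
  [(nat_lit 11), (nat_lit 7), (nat_lit 11), (nat_lit 7)],
  [(nat_lit 10), (nat_lit 12), (nat_lit 9), (nat_lit 12), (nat_lit 12), (nat_lit 10), (nat_lit 11), (nat_lit 11), (nat_lit 11)],
  [(nat_lit 13), (nat_lit 13), (nat_lit 13)],
  [(nat_lit 14), (nat_lit 2), (nat_lit 13), (nat_lit 1)],
  [(nat_lit 14), (nat_lit 6), (nat_lit 13), (nat_lit 5)],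
  [(nat_lit 14), (nat_lit 8), (nat_lit 13), (nat_lit 7)],
  [(nat_lit 14), (nat_lit 10), (nat_lit 13), (nat_lit 9)],
  [(nat_lit 14), (nat_lit 11), (nat_lit 13), (nat_lit 12), (nat_lit 12)],
  [(nat_lit 15), (nat_lit 15), (nat_lit 6), (nat_lit 2)],
  [(nat_lit 16), (nat_lit 2), (nat_lit 15), (nat_lit 1)],
  [(nat_lit 16), (nat_lit 6), (nat_lit 15), (nat_lit 5)],
  [(nat_lit 16), (nat_lit 10), (nat_lit 15), (nat_lit 9)],
  [(nat_lit 7), (nat_lit 9), (nat_lit 16), (nat_lit 7), (nat_lit 15), (nat_lit 7), (nat_lit 9), (nat_lit 16), (nat_lit 7), (nat_lit 15)],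
  [(nat_lit 16), (nat_lit 13), (nat_lit 15), (nat_lit 13)],
  [(nat_lit 10), (nat_lit 12), (nat_lit 12), (nat_lit 16), (nat_lit 11), (nat_lit 11), (nat_lit 9), (nat_lit 12), (nat_lit 12), (nat_lit 15), (nat_lit 11), (nat_lit 11)],
  [(nat_lit 1), (nat_lit 5), (nat_lit 12), (nat_lit 16), (nat_lit 12), (nat_lit 16), (nat_lit 12), (nat_lit 16)],
  [(nat_lit 1), (nat_lit 5), (nat_lit 12), (nat_lit 16), (nat_lit 11), (nat_lit 15), (nat_lit 12), (nat_lit 16), (nat_lit 11), (nat_lit 15), (nat_lit 12), (nat_lit 16), (nat_lit 11), (nat_lit 15), (nat_lit 12), (nat_lit 16), (nat_lit 11), (nat_lit 15)],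
  [(nat_lit 7), (nat_lit 12), (nat_lit 12), (nat_lit 15), (nat_lit 11), (nat_lit 11), (nat_lit 7), (nat_lit 12), (nat_lit 12), (nat_lit 15), (nat_lit 11), (nat_lit 11), (nat_lit 7), (nat_lit 12), (nat_lit 12), (nat_lit 15), (nat_lit 11), (nat_lit 11), (nat_lit 7), (nat_lit 12), (nat_lit 12), (nat_lit 15), (nat_lit 10), (nat_lit 8), (nat_lit 6), (nat_lit 7), (nat_lit 9), (nat_lit 11), (nat_lit 11), (nat_lit 11), (nat_lit 10), (nat_lit 8), (nat_lit 6), (nat_lit 7), (nat_lit 9), (nat_lit 12), (nat_lit 8), (nat_lit 6), (nat_lit 7), (nat_lit 6), (nat_lit 2)]]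
noncomputable def RC2 : List (List Nat) := [[(nat_lit 7), (nat_lit 12), (nat_lit 9), (nat_lit 5), (nat_lit 7), (nat_lit 12), (nat_lit 9), (nat_lit 5), (nat_lit 7), (nat_lit 12), (nat_lit 9), (nat_lit 5), (nat_lit 7), (nat_lit 12), (nat_lit 9), (nat_lit 5), (nat_lit 7), (nat_lit 12), (nat_lit 9), (nat_lit 5), (nat_lit 7), (nat_lit 12), (nat_lit 9), (nat_lit 5), (nat_lit 7), (nat_lit 12), (nat_lit 9), (nat_lit 5), (nat_lit 7), (nat_lit 12), (nat_lit 9), (nat_lit 5), (nat_lit 7), (nat_lit 12), (nat_lit 9), (nat_lit 5)],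
  [(nat_lit 1), (nat_lit 1)],
  [(nat_lit 5), (nat_lit 5)],
  [(nat_lit 7), (nat_lit 7)],
  [(nat_lit 9), (nat_lit 9)],
  [(nat_lit 1), (nat_lit 9), (nat_lit 1), (nat_lit 9)],
  [(nat_lit 1), (nat_lit 8), (nat_lit 6), (nat_lit 8), (nat_lit 6), (nat_lit 8), (nat_lit 6), (nat_lit 8), (nat_lit 6)],
  [(nat_lit 5), (nat_lit 9), (nat_lit 5), (nat_lit 9)],
  [(nat_lit 7), (nat_lit 9), (nat_lit 7), (nat_lit 9), (nat_lit 7), (nat_lit 9)],
  [(nat_lit 11), (nat_lit 11), (nat_lit 11), (nat_lit 11), (nat_lit 11), (nat_lit 11), (nat_lit 11)],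
  [(nat_lit 12), (nat_lit 2), (nat_lit 11), (nat_lit 1)],
  [(nat_lit 12), (nat_lit 6), (nat_lit 11), (nat_lit 5)],
  [(nat_lit 11), (nat_lit 7), (nat_lit 11), (nat_lit 7)],
  [(nat_lit 10), (nat_lit 12), (nat_lit 9), (nat_lit 12), (nat_lit 12), (nat_lit 10), (nat_lit 11), (nat_lit 11), (nat_lit 11)],
  [(nat_lit 13), (nat_lit 13), (nat_lit 13)],
  [(nat_lit 14), (nat_lit 2), (nat_lit 13), (nat_lit 1)],
  [(nat_lit 14), (nat_lit 6), (nat_lit 13), (nat_lit 5)],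
  [(nat_lit 14), (nat_lit 8), (nat_lit 13), (nat_lit 7)],
  [(nat_lit 14), (nat_lit 10), (nat_lit 13), (nat_lit 9)],
  [(nat_lit 14), (nat_lit 11), (nat_lit 13), (nat_lit 12), (nat_lit 12)]]
noncomputable def RC3 : List (List Nat) := [[(nat_lit 7), (nat_lit 7)],
  [(nat_lit 9), (nat_lit 9)],
  [(nat_lit 7), (nat_lit 9), (nat_lit 7), (nat_lit 9), (nat_lit 7), (nat_lit 9)],
  [(nat_lit 11), (nat_lit 11), (nat_lit 11), (nat_lit 11), (nat_lit 11), (nat_lit 11), (nat_lit 11)],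
  [(nat_lit 11), (nat_lit 7), (nat_lit 11), (nat_lit 7)],
  [(nat_lit 10), (nat_lit 12), (nat_lit 9), (nat_lit 12), (nat_lit 12), (nat_lit 10), (nat_lit 11), (nat_lit 11), (nat_lit 11)],
  [(nat_lit 13), (nat_lit 13), (nat_lit 13)],
  [(nat_lit 14), (nat_lit 8), (nat_lit 13), (nat_lit 7)],
  [(nat_lit 14), (nat_lit 10), (nat_lit 13), (nat_lit 9)],
  [(nat_lit 14), (nat_lit 11), (nat_lit 13), (nat_lit 12), (nat_lit 12)]]
noncomputable def C1 : List (List Nat) := [[(nat_lit 1)],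
  [(nat_lit 5)],
  [(nat_lit 7)],
  [(nat_lit 9)],
  [(nat_lit 11)],
  [(nat_lit 13)],
  [(nat_lit 15)]]
noncomputable def C2 : List (List Nat) := [[(nat_lit 1)],
  [(nat_lit 5)],
  [(nat_lit 7)],
  [(nat_lit 9)],
  [(nat_lit 11)],
  [(nat_lit 13)]]
noncomputable def C3 : List (List Nat) := [[(nat_lit 7)],
  [(nat_lit 9)],
  [(nat_lit 11)],
  [(nat_lit 13)]]
noncomputable def C4 : List (List Nat) := [[(nat_lit 11)]]

end CF.Dce.Th
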