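import Cfsg.Agent.Bt.Defs

set_option autoImplicit false
set_option maxRecDepth 1000000
set_option maxHeartbeats 0
set_option Elab.async false

namespace CF.Dce.Th
open CF.Comp

open CF.Bt
noncomputable def BX : Tr := (.sym [[1], [3], [5], [7], [9], [11], [13]] (.cons [] 2 384 (.base (nat_lit 0x7ffffffffffffff1fffffffff3ffffff8003fffffff807fff0003ffffffffffff0000fffffc0000003fffffffff80007f8001ffffffffffc0000003ffc0003ffffffc000e010ffffffffc0003c01ffff804001ffff00407fc0000ff801fc001fc3f80fe71dbbe) (.focus 0 (.op 4 0 (.focus 0 (.sym [[1], [3], [5], [7], [9]] (.cons [] 2 24 (.base (nat_lit 0xe1c000000000000003fc1fc001000000000000000000f780000000000000f7800000000000fc00000001f8000001800000300004000043c00f06192a0) (.focus 0 (.base (nat_lit 0x3c001000000300000004000080000) (.op 4 0 (.focus 0 (.sym [[1], [3], [5]] (.cons [] 2 3 (.focus 1 (.focus 3 (.base (nat_lit 4026597920)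 (.focus 0 (.sym [[1]] (.cons [] 2 1 (.focus 3 (.base (nat_lit 1073807872) (.focus 0 (.base (nat_lit 524288) (.op 4 0 (.focus 0 (.cons [] 0 1 .triv .nil))))))) (.cons [1] 2 0 (.base (nat_lit 1073807872) (.op 4 0 (.base (nat_lit 524288) (.and 1 0 (.dead0 0))))) (.cons [5, 4] 0 0 (.base (nat_lit 524288) (.op 4 3 (.and 1 0 (.dead0 0)))) .nil)))))))) .nil))))))) (.cons [3] 2 0 (.base (nat_lit 0xe1c000000000000003fc1fc001000000000000000000f780000000000000f7800000000000fc00000001f8000001800000300004000043c00f06192a0) (.op 5 0 (.and 1 0 (.dead0 0)))) (.cons [1, 3] 2 0 (.base (nat_lit 0xe1c000000000000003fc1fc001000000000000000000f780000000000000f7800000000000fc00000001f8000001800000300004000043c00f06192a0) (.op 5 0 (.and 1 0 (.dead0 0)))) (.cons [14, 1, 3] 2 0 (.base (nat_lit 0xe1c000000000000003fc1fc001000000000000000000f780000000000000f7800000000000fc00000001f8000001800000300004000043c00f06192a0)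 (.op 5 0 (.and 1 0 (.dead0 0)))) (.cons [3, 9, 3] 2 0 (.op 5 0 (.and 1 0 (.dead0 0))) .nil)))))))))) (.cons [2] 2 0 (.base (nat_lit 0x7ffffffffffffff1fffffffff3ffffff8003fffffff807fff0003ffffffffffff0000fffffc0000003fffffffff80007f8001ffffffffffc0000003ffc0003ffffffc000e010ffffffffc0003c01ffff804001ffff00407fc0000ff801fc001fc3f80fe71dbbe) (.op 4 1 (.and 1 0 (.dead0 0)))) (.cons [13, 16, 2] 1 0 (.op 5 0 (.and 1 0 (.dead0 0))) (.cons [10, 2, 2] 2 0 (.base (nat_lit 0xf000000003f000001e00060440) (.op 4 1 (.and 1 0 (.dead0 0)))) (.cons [10, 2, 4, 2] 2 0 (.op 5 0 (.and 1 0 (.dead0 0))) .nil))))))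
noncomputable def BXK : List (List Nat) := [[42, 43], [34, 40, 44], [33, 42, 44], [35, 33, 35, 40, 38, 40], [35, 37, 35, 35, 33, 33, 37, 42], [15, 39, 35, 35, 39], [15, 17, 15, 15, 41, 36, 36, 39, 34, 37, 39, 44]]
noncomputable def BXF : List (List Nat) := [[], [1]]
noncomputable def BY : Tr := (.op 5 0 (.focus 0 (.op 11 0 (.focus 0 (.cons [] 0 1 (.op 10 0 (.op 16 0 (.focus 0 (.cons [] 0 1 (.base (nat_lit 0xe1c000000000000003fc1fc001000000000000000000f780000000000000f7800000000000fc00000001f8000001800000300004000043c00f06192a0) (.focus 0 (.op 10 0 (.focus 0 (.op 22 1 (.focus 0 (.op 2 0 (.op 22 4 (.op 28 0 (.xor 2 0 (.focus 0 (.cons [] 0 1 (.focus 3 (.cons [] 0 1 (.focus 3 (.cons [] 0 1 .triv .nil)) .nil)) (.cons [2] 0 0 (.op 34 0 (.op 14 0 (.and 1 0 (.dead0 0)))) (.cons [1] 0 0 (.op 34 0 (.op 22 1 (.and 1 0 (.dead0 0)))) (.cons [6, 2] 0 0 (.op 34 0 (.op 14 0 (.and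 1 0 (.dead0 0)))) (.cons [10, 2] 0 0 (.op 34 0 (.op 14 0 (.and 1 0 (.dead0 0)))) (.cons [7, 2] 0 0 (.op 34 0 (.op 28 1 (.and 1 0 (.dead0 0)))) .nil))))))))))))))))) .nil)))) (.cons [1] 0 0 (.op 14 0 (.and 1 0 (.dead0 0))) (.cons [13, 16, 2] 0 0 (.op 14 0 (.and 1 0 (.dead0 0))) .nil)))))))
noncomputable def BYK : List (List Nat) := []
noncomputable def BYF : List (List Nat) := [[], [1], [3], [5], [7], [9], [11]]
noncomputable def cT2 : List (List (List Nat)) := [[[],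
  [(nat_lit 2)],
  [(nat_lit 1)],
  [(nat_lit 5)],
  [(nat_lit 6)],
  [(nat_lit 1), (nat_lit 5)],
  [(nat_lit 2), (nat_lit 5)],
  [(nat_lit 2), (nat_lit 6)],
  [(nat_lit 1), (nat_lit 6)],
  [(nat_lit 2), (nat_lit 4)],
  [(nat_lit 1), (nat_lit 4)],
  [(nat_lit 2), (nat_lit 4), (nat_lit 1)],
  [(nat_lit 5), (nat_lit 4)],
  [(nat_lit 6), (nat_lit 4)],
  [(nat_lit 1), (nat_lit 5), (nat_lit 4)],
  [(nat_lit 2), (nat_lit 5), (nat_lit 4)],
  [(nat_lit 2), (nat_lit 6), (nat_lit 4)],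
  [(nat_lit 1), (nat_lit 6), (nat_lit 4)]],
 [[],
  [(nat_lit 6)],
  [(nat_lit 5)],
  [(nat_lit 7)],
  [(nat_lit 8)],
  [(nat_lit 10)],
  [(nat_lit 9)],
  [(nat_lit 6), (nat_lit 6)],
  [(nat_lit 8), (nat_lit 3)],
  [(nat_lit 7), (nat_lit 4)],
  [(nat_lit 8), (nat_lit 4)],
  [(nat_lit 7), (nat_lit 3)],
  [(nat_lit 10), (nat_lit 4)],
  [(nat_lit 9), (nat_lit 4)],
  [(nat_lit 10), (nat_lit 3)],
  [(nat_lit 9), (nat_lit 3)]],
 [[],
  [(nat_lit 2)],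
  [(nat_lit 6)],
  [(nat_lit 8)],
  [(nat_lit 7)],
  [(nat_lit 2), (nat_lit 6)],
  [(nat_lit 2), (nat_lit 7)],
  [(nat_lit 2), (nat_lit 8)],
  [(nat_lit 8), (nat_lit 3)],
  [(nat_lit 2), (nat_lit 7), (nat_lit 4)],
  [(nat_lit 6), (nat_lit 8)],
  [(nat_lit 8), (nat_lit 5)],
  [(nat_lit 6), (nat_lit 7)],
  [(nat_lit 6), (nat_lit 8), (nat_lit 2)],
  [(nat_lit 2), (nat_lit 7), (nat_lit 6)],
  [(nat_lit 6), (nat_lit 7), (nat_lit 2)]],
 [[],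
  [(nat_lit 2)],
  [(nat_lit 1)]]]
noncomputable def cT3 : List (List (List Nat)) := [[[],
  [(nat_lit 1)],
  [(nat_lit 2)],
  [(nat_lit 3)],
  [(nat_lit 1), (nat_lit 1)],
  [(nat_lit 3), (nat_lit 2)]],
 [[],
  [(nat_lit 1)],
  [(nat_lit 2)],
  [(nat_lit 3)],
  [(nat_lit 2), (nat_lit 3)],
  [(nat_lit 2), (nat_lit 4)]],
 [[],
  [(nat_lit 2)]],
 [[],
  [(nat_lit 2)]],
 [[],
  [(nat_lit 2)]]]
noncomputable def cT4 : List (List (List Nat)) := [[[],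
  [(nat_lit 4)],
  [(nat_lit 3)],
  [(nat_lit 3), (nat_lit 6)],
  [(nat_lit 4), (nat_lit 6)],
  [(nat_lit 4), (nat_lit 6), (nat_lit 3)],
  [(nat_lit 3), (nat_lit 6), (nat_lit 4)],
  [(nat_lit 4), (nat_lit 6), (nat_lit 3), (nat_lit 3)],
  [(nat_lit 3), (nat_lit 6), (nat_lit 4), (nat_lit 4)]],
 [[],
  [(nat_lit 1)],
  [(nat_lit 2)],
  [(nat_lit 4)],
  [(nat_lit 4), (nat_lit 1)],
  [(nat_lit 4), (nat_lit 2)],
  [(nat_lit 4), (nat_lit 6)],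
  [(nat_lit 4), (nat_lit 2), (nat_lit 6)],
  [(nat_lit 4), (nat_lit 1), (nat_lit 6)]],
 [[],
  [(nat_lit 2)],
  [(nat_lit 4)],
  [(nat_lit 3)],
  [(nat_lit 2), (nat_lit 3)],
  [(nat_lit 4), (nat_lit 2)]]]
noncomputable def cT5 : List (List (List Nat)) := [[[],
  [(nat_lit 2)],
  [(nat_lit 4)]],
 [[],
  [(nat_lit 2)]]]
noncomputable def cT6 : List (List (List Nat)) := [[[],
  [(nat_lit 2)],
  [(nat_lit 3)],
  [(nat_lit 4)],
  [(nat_lit 2), (nat_lit 3)],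
  [(nat_lit 2), (nat_lit 4)],
  [(nat_lit 2), (nat_lit 3), (nat_lit 2)],
  [(nat_lit 2), (nat_lit 4), (nat_lit 2)],
  [(nat_lit 2), (nat_lit 3), (nat_lit 2), (nat_lit 4)]],
 [[],
  [(nat_lit 2)],
  [(nat_lit 4)],
  [(nat_lit 4), (nat_lit 2)],
  [(nat_lit 2), (nat_lit 4)],
  [(nat_lit 4), (nat_lit 2), (nat_lit 4)]]]
noncomputable def cT7 : List (List (List Nat)) := [[[],
  [(nat_lit 4)],
  [(nat_lit 6)],
  [(nat_lit 5)],
  [(nat_lit 4), (nat_lit 6)],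
  [(nat_lit 6), (nat_lit 4)],
  [(nat_lit 5), (nat_lit 4)],
  [(nat_lit 4), (nat_lit 5)],
  [(nat_lit 4), (nat_lit 5), (nat_lit 4)],
  [(nat_lit 5), (nat_lit 5)],
  [(nat_lit 6), (nat_lit 6)],
  [(nat_lit 5), (nat_lit 4), (nat_lit 6)],
  [(nat_lit 4), (nat_lit 5), (nat_lit 5)],
  [(nat_lit 5), (nat_lit 5), (nat_lit 4)],
  [(nat_lit 6), (nat_lit 4), (nat_lit 5)],
  [(nat_lit 6), (nat_lit 6), (nat_lit 4)],
  [(nat_lit 5), (nat_lit 4), (nat_lit 6), (nat_lit 4)],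
  [(nat_lit 4), (nat_lit 5), (nat_lit 5), (nat_lit 4)],
  [(nat_lit 6), (nat_lit 4), (nat_lit 5), (nat_lit 4)],
  [(nat_lit 5), (nat_lit 5), (nat_lit 5)],
  [(nat_lit 5), (nat_lit 4), (nat_lit 6), (nat_lit 4), (nat_lit 5)]],
 [[],
  [(nat_lit 4)]],
 [[],
  [(nat_lit 2)],
  [(nat_lit 1)]]]
noncomputable def cT8 : List (List (List Nat)) := [[[],
  [(nat_lit 2)],
  [(nat_lit 4)],
  [(nat_lit 3)],
  [(nat_lit 3), (nat_lit 2)],
  [(nat_lit 4), (nat_lit 2)],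
  [(nat_lit 2), (nat_lit 4)],
  [(nat_lit 2), (nat_lit 3)],
  [(nat_lit 2), (nat_lit 4), (nat_lit 2)],
  [(nat_lit 2), (nat_lit 3), (nat_lit 2)],
  [(nat_lit 3), (nat_lit 3)],
  [(nat_lit 4), (nat_lit 4)],
  [(nat_lit 3), (nat_lit 3), (nat_lit 2)],
  [(nat_lit 2), (nat_lit 3), (nat_lit 3)],
  [(nat_lit 4), (nat_lit 2), (nat_lit 3)],
  [(nat_lit 3), (nat_lit 2), (nat_lit 4)],
  [(nat_lit 2), (nat_lit 4), (nat_lit 4)],
  [(nat_lit 4), (nat_lit 4), (nat_lit 2)],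
  [(nat_lit 4), (nat_lit 2), (nat_lit 3), (nat_lit 2)],
  [(nat_lit 2), (nat_lit 4), (nat_lit 4), (nat_lit 2)],
  [(nat_lit 2), (nat_lit 3), (nat_lit 2), (nat_lit 4)],
  [(nat_lit 2), (nat_lit 4), (nat_lit 2), (nat_lit 3)],
  [(nat_lit 3), (nat_lit 2), (nat_lit 4), (nat_lit 2)],
  [(nat_lit 3), (nat_lit 3), (nat_lit 3)],
  [(nat_lit 2), (nat_lit 3), (nat_lit 2), (nat_lit 4), (nat_lit 2)],
  [(nat_lit 2), (nat_lit 4), (nat_lit 2), (nat_lit 3), (nat_lit 2)],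
  [(nat_lit 3), (nat_lit 2), (nat_lit 4), (nat_lit 4)],
  [(nat_lit 4), (nat_lit 2), (nat_lit 3), (nat_lit 3)],
  [(nat_lit 3), (nat_lit 2), (nat_lit 4), (nat_lit 4), (nat_lit 2)],
  [(nat_lit 2), (nat_lit 4), (nat_lit 4), (nat_lit 2), (nat_lit 3)],
  [(nat_lit 2), (nat_lit 4), (nat_lit 2), (nat_lit 3), (nat_lit 3)],
  [(nat_lit 2), (nat_lit 3), (nat_lit 2), (nat_lit 4), (nat_lit 4)],
  [(nat_lit 4), (nat_lit 2), (nat_lit 3), (nat_lit 2), (nat_lit 4)],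
  [(nat_lit 3), (nat_lit 2), (nat_lit 4), (nat_lit 2), (nat_lit 3)],
  [(nat_lit 4), (nat_lit 2), (nat_lit 3), (nat_lit 3), (nat_lit 2)],
  [(nat_lit 4), (nat_lit 2), (nat_lit 3), (nat_lit 2), (nat_lit 4), (nat_lit 2)],
  [(nat_lit 3), (nat_lit 2), (nat_lit 4), (nat_lit 2), (nat_lit 3), (nat_lit 2)],
  [(nat_lit 4), (nat_lit 2), (nat_lit 3), (nat_lit 3), (nat_lit 2), (nat_lit 4)],
  [(nat_lit 2), (nat_lit 4), (nat_lit 4), (nat_lit 2), (nat_lit 3), (nat_lit 3)]],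
 [[],
  [(nat_lit 2)]]]
noncomputable def cT9 : List (List (List Nat)) := [[[],
  [(nat_lit 2)],
  [(nat_lit 1)],
  [(nat_lit 3)],
  [(nat_lit 4)],
  [(nat_lit 3), (nat_lit 1)],
  [(nat_lit 1), (nat_lit 3)],
  [(nat_lit 3), (nat_lit 2)],
  [(nat_lit 2), (nat_lit 4)],
  [(nat_lit 1), (nat_lit 4)],
  [(nat_lit 2), (nat_lit 4), (nat_lit 2)],
  [(nat_lit 3), (nat_lit 2), (nat_lit 4)]],
 [[],
  [(nat_lit 4)]],
 [[],
  [(nat_lit 2)],
  [(nat_lit 1)]]]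
noncomputable def cT10 : List (List (List Nat)) := [[[],
  [(nat_lit 2)],
  [(nat_lit 1)],
  [(nat_lit 4)],
  [(nat_lit 3)],
  [(nat_lit 2), (nat_lit 4)],
  [(nat_lit 3), (nat_lit 2)],
  [(nat_lit 1), (nat_lit 3)],
  [(nat_lit 4), (nat_lit 2)],
  [(nat_lit 1), (nat_lit 4)],
  [(nat_lit 2), (nat_lit 3)],
  [(nat_lit 3), (nat_lit 1)],
  [(nat_lit 4), (nat_lit 1)],
  [(nat_lit 4), (nat_lit 4)],
  [(nat_lit 3), (nat_lit 3)],
  [(nat_lit 1), (nat_lit 4), (nat_lit 2)],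
  [(nat_lit 1), (nat_lit 3), (nat_lit 1)],
  [(nat_lit 2), (nat_lit 3), (nat_lit 1)],
  [(nat_lit 2), (nat_lit 3), (nat_lit 2)],
  [(nat_lit 2), (nat_lit 4), (nat_lit 2)],
  [(nat_lit 1), (nat_lit 4), (nat_lit 1)],
  [(nat_lit 1), (nat_lit 3), (nat_lit 2)],
  [(nat_lit 2), (nat_lit 4), (nat_lit 1)],
  [(nat_lit 3), (nat_lit 3), (nat_lit 1)],
  [(nat_lit 2), (nat_lit 3), (nat_lit 3)],
  [(nat_lit 1), (nat_lit 3), (nat_lit 3)],
  [(nat_lit 1), (nat_lit 4), (nat_lit 4)],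
  [(nat_lit 3), (nat_lit 1), (nat_lit 4)],
  [(nat_lit 3), (nat_lit 2), (nat_lit 3)],
  [(nat_lit 4), (nat_lit 4), (nat_lit 2)],
  [(nat_lit 3), (nat_lit 1), (nat_lit 3)],
  [(nat_lit 3), (nat_lit 2), (nat_lit 4)],
  [(nat_lit 4), (nat_lit 2), (nat_lit 3)],
  [(nat_lit 2), (nat_lit 4), (nat_lit 4)],
  [(nat_lit 4), (nat_lit 4), (nat_lit 1)],
  [(nat_lit 4), (nat_lit 2), (nat_lit 4)],
  [(nat_lit 4), (nat_lit 4), (nat_lit 4)],
  [(nat_lit 2), (nat_lit 3), (nat_lit 2), (nat_lit 3)],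
  [(nat_lit 1), (nat_lit 3), (nat_lit 3), (nat_lit 2)],
  [(nat_lit 3), (nat_lit 2), (nat_lit 3), (nat_lit 2)],
  [(nat_lit 1), (nat_lit 3), (nat_lit 1), (nat_lit 3)],
  [(nat_lit 4), (nat_lit 2), (nat_lit 4), (nat_lit 1)],
  [(nat_lit 1), (nat_lit 4), (nat_lit 2), (nat_lit 4)],
  [(nat_lit 2), (nat_lit 3), (nat_lit 3), (nat_lit 1)],
  [(nat_lit 1), (nat_lit 3), (nat_lit 3), (nat_lit 1)],
  [(nat_lit 2), (nat_lit 3), (nat_lit 1), (nat_lit 4)],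
  [(nat_lit 1), (nat_lit 3), (nat_lit 1), (nat_lit 4)],
  [(nat_lit 2), (nat_lit 4), (nat_lit 2), (nat_lit 4)],
  [(nat_lit 1), (nat_lit 4), (nat_lit 2), (nat_lit 3)],
  [(nat_lit 1), (nat_lit 3), (nat_lit 2), (nat_lit 3)],
  [(nat_lit 2), (nat_lit 4), (nat_lit 1), (nat_lit 3)],
  [(nat_lit 2), (nat_lit 4), (nat_lit 2), (nat_lit 3)],
  [(nat_lit 3), (nat_lit 1), (nat_lit 4), (nat_lit 1)],
  [(nat_lit 3), (nat_lit 2), (nat_lit 4), (nat_lit 1)],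
  [(nat_lit 4), (nat_lit 2), (nat_lit 3), (nat_lit 2)],
  [(nat_lit 3), (nat_lit 1), (nat_lit 3), (nat_lit 2)],
  [(nat_lit 1), (nat_lit 3), (nat_lit 2), (nat_lit 4)],
  [(nat_lit 3), (nat_lit 1), (nat_lit 4), (nat_lit 2)],
  [(nat_lit 1), (nat_lit 4), (nat_lit 1), (nat_lit 3)],
  [(nat_lit 2), (nat_lit 3), (nat_lit 3), (nat_lit 2)],
  [(nat_lit 1), (nat_lit 3), (nat_lit 3), (nat_lit 3)],
  [(nat_lit 3), (nat_lit 3), (nat_lit 1), (nat_lit 3)],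
  [(nat_lit 3), (nat_lit 2), (nat_lit 4), (nat_lit 4)],
  [(nat_lit 3), (nat_lit 1), (nat_lit 4), (nat_lit 4)],
  [(nat_lit 3), (nat_lit 3), (nat_lit 1), (nat_lit 4)],
  [(nat_lit 3), (nat_lit 2), (nat_lit 3), (nat_lit 3)],
  [(nat_lit 4), (nat_lit 4), (nat_lit 1), (nat_lit 4)],
  [(nat_lit 2), (nat_lit 3), (nat_lit 2), (nat_lit 3), (nat_lit 2)],
  [(nat_lit 1), (nat_lit 3), (nat_lit 1), (nat_lit 3), (nat_lit 2)],
  [(nat_lit 2), (nat_lit 4), (nat_lit 1), (nat_lit 3), (nat_lit 1)],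
  [(nat_lit 1), (nat_lit 3), (nat_lit 1), (nat_lit 4), (nat_lit 1)],
  [(nat_lit 2), (nat_lit 4), (nat_lit 2), (nat_lit 3), (nat_lit 2)],
  [(nat_lit 1), (nat_lit 3), (nat_lit 1), (nat_lit 4), (nat_lit 2)],
  [(nat_lit 1), (nat_lit 3), (nat_lit 1), (nat_lit 3), (nat_lit 1)],
  [(nat_lit 2), (nat_lit 4), (nat_lit 1), (nat_lit 3), (nat_lit 2)],
  [(nat_lit 2), (nat_lit 4), (nat_lit 2), (nat_lit 4), (nat_lit 4)],
  [(nat_lit 4), (nat_lit 2), (nat_lit 4), (nat_lit 1), (nat_lit 3)],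
  [(nat_lit 2), (nat_lit 4), (nat_lit 1), (nat_lit 3), (nat_lit 3)],
  [(nat_lit 1), (nat_lit 3), (nat_lit 3), (nat_lit 3), (nat_lit 1)],
  [(nat_lit 1), (nat_lit 3), (nat_lit 3), (nat_lit 3), (nat_lit 2)],
  [(nat_lit 3), (nat_lit 2), (nat_lit 3), (nat_lit 3), (nat_lit 1)],
  [(nat_lit 3), (nat_lit 2), (nat_lit 4), (nat_lit 4), (nat_lit 2)],
  [(nat_lit 3), (nat_lit 2), (nat_lit 3), (nat_lit 3), (nat_lit 2)],
  [(nat_lit 2), (nat_lit 3), (nat_lit 2), (nat_lit 3), (nat_lit 2), (nat_lit 3)]],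
 [[],
  [(nat_lit 4)]],
 [[],
  [(nat_lit 1)],
  [(nat_lit 2)],
  [(nat_lit 2), (nat_lit 3)],
  [(nat_lit 1), (nat_lit 3)],
  [(nat_lit 1), (nat_lit 4)],
  [(nat_lit 2), (nat_lit 4)]],
 [[],
  [(nat_lit 1)],
  [(nat_lit 2)]]]
noncomputable def cT : List (List (List (List Nat))) := [[], [], cT2, cT3, cT4, cT5, cT6, cT7, cT8, cT9, cT10, [], [], [], [], []]
noncomputable def cM : List Nat := [(nat_lit 0), (nat_lit 0), (nat_lit 271), (nat_lit 31), (nat_lit 27), (nat_lit 3), (nat_lit 9), (nat_lit 7), (nat_lit 13), (nat_lit 1), (nat_lit 49), (nat_lit 0), (nat_lit 0), (nat_lit 0), (nat_lit 0), (nat_lit 0)]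
noncomputable def kW : List Nat := [(nat_lit 7), (nat_lit 3), (nat_lit 5), (nat_lit 7), (nat_lit 3), (nat_lit 5), (nat_lit 1), (nat_lit 3)]
noncomputable def zW : List Nat := [(nat_lit 3), (nat_lit 1), (nat_lit 5), (nat_lit 3), (nat_lit 9)]
noncomputable def QS : List (List Nat) := [[(nat_lit 5)],
  [(nat_lit 7), (nat_lit 5), (nat_lit 7)],
  [(nat_lit 5), (nat_lit 7), (nat_lit 5), (nat_lit 7), (nat_lit 9), (nat_lit 7), (nat_lit 5), (nat_lit 7), (nat_lit 9)],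
  [(nat_lit 5), (nat_lit 7), (nat_lit 5), (nat_lit 7), (nat_lit 11), (nat_lit 9), (nat_lit 7), (nat_lit 5), (nat_lit 7), (nat_lit 9), (nat_lit 12)],
  [(nat_lit 12), (nat_lit 9), (nat_lit 7), (nat_lit 5), (nat_lit 7), (nat_lit 9), (nat_lit 11), (nat_lit 9), (nat_lit 11), (nat_lit 9), (nat_lit 7), (nat_lit 5), (nat_lit 7), (nat_lit 9), (nat_lit 12), (nat_lit 9)],
  [(nat_lit 12), (nat_lit 9), (nat_lit 7), (nat_lit 5), (nat_lit 7), (nat_lit 9), (nat_lit 11), (nat_lit 11), (nat_lit 11), (nat_lit 9), (nat_lit 7), (nat_lit 5), (nat_lit 7), (nat_lit 9), (nat_lit 12), (nat_lit 12)],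
  [(nat_lit 13), (nat_lit 11), (nat_lit 9), (nat_lit 7), (nat_lit 5), (nat_lit 7), (nat_lit 9), (nat_lit 12), (nat_lit 12), (nat_lit 9), (nat_lit 7), (nat_lit 5), (nat_lit 7), (nat_lit 9), (nat_lit 11), (nat_lit 14)],
  [(nat_lit 5), (nat_lit 7), (nat_lit 5), (nat_lit 7), (nat_lit 9), (nat_lit 7), (nat_lit 5), (nat_lit 7), (nat_lit 9), (nat_lit 13), (nat_lit 12), (nat_lit 9), (nat_lit 7), (nat_lit 5), (nat_lit 7), (nat_lit 9), (nat_lit 11), (nat_lit 14), (nat_lit 11), (nat_lit 9), (nat_lit 7), (nat_lit 5), (nat_lit 7), (nat_lit 9), (nat_lit 12)]]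
noncomputable def A0_0 : Net := Net.nil
noncomputable def A0_1 : Net := Net.nil
noncomputable def A0_2 : Net := Net.nil
noncomputable def A0_3 : Net := (Net.cons (nat_lit 1) (nat_lit 4) (Net.cons (nat_lit 2) (nat_lit 16) (Net.cons (nat_lit 4) (nat_lit 1) (Net.cons (nat_lit 8) (nat_lit 1) (Net.cons (nat_lit 4) (nat_lit 5) (Net.cons (nat_lit 2) (nat_lit 48) (Net.cons (nat_lit 1) (nat_lit 5) Net.nil)))))))
noncomputable def A0_4 : Net := (Net.cons (nat_lit 1) (nat_lit 84) (Net.cons (nat_lit 2) (nat_lit 16) (Net.cons (nat_lit 4) (nat_lit 1) (Net.cons (nat_lit 8) (nat_lit 1) (Net.cons (nat_lit 4) (nat_lit 5) (Net.cons (nat_lit 2) (nat_lit 50) (Net.cons (nat_lit 1) (nat_lit 84) Net.nil)))))))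
noncomputable def A0_5 : Net := (Net.cons (nat_lit 4) (nat_lit 1) (Net.cons (nat_lit 8) (nat_lit 1) (Net.cons (nat_lit 4) (nat_lit 5) (Net.cons (nat_lit 2) (nat_lit 48) (Net.cons (nat_lit 1) (nat_lit 68) Net.nil)))))
noncomputable def A0_6 : Net := (Net.cons (nat_lit 1) (nat_lit 80) (Net.cons (nat_lit 4) (nat_lit 1) (Net.cons (nat_lit 8) (nat_lit 1) (Net.cons (nat_lit 4) (nat_lit 9) Net.nil))))
noncomputable def A0_7 : Net := (Net.cons (nat_lit 1) (nat_lit 64) (Net.cons (nat_lit 4) (nat_lit 8) (Net.cons (nat_lit 1) (nat_lit 80) Net.nil)))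
noncomputable def A0 : List Net := [A0_0, A0_1, A0_2, A0_3, A0_4, A0_5, A0_6, A0_7]
noncomputable def A1_0 : Net := (Net.cons (nat_lit 1) (nat_lit 68) (Net.cons (nat_lit 4) (nat_lit 1) (Net.cons (nat_lit 8) (nat_lit 1) (Net.cons (nat_lit 4) (nat_lit 5) (Net.cons (nat_lit 2) (nat_lit 18) Net.nil)))))
noncomputable def A1_1 : Net := (Net.cons (nat_lit 1) (nat_lit 5) (Net.cons (nat_lit 2) (nat_lit 1) (Net.cons (nat_lit 4) (nat_lit 1) (Net.cons (nat_lit 8) (nat_lit 1) (Net.cons (nat_lit 2) (nat_lit 32) (Net.cons (nat_lit 1) (nat_lit 5) Net.nil))))))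
noncomputable def A1_2 : Net := (Net.cons (nat_lit 1) (nat_lit 20) (Net.cons (nat_lit 2) (nat_lit 49) (Net.cons (nat_lit 8) (nat_lit 1) (Net.cons (nat_lit 4) (nat_lit 9) (Net.cons (nat_lit 2) (nat_lit 1) (Net.cons (nat_lit 1) (nat_lit 64) Net.nil))))))
noncomputable def A1_3 : Net := (Net.cons (nat_lit 1) (nat_lit 4) (Net.cons (nat_lit 2) (nat_lit 48) (Net.cons (nat_lit 4) (nat_lit 1) (Net.cons (nat_lit 8) (nat_lit 1) (Net.cons (nat_lit 4) (nat_lit 13) (Net.cons (nat_lit 2) (nat_lit 32) (Net.cons (nat_lit 1) (nat_lit 4) Net.nil)))))))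
noncomputable def A1_4 : Net := (Net.cons (nat_lit 4) (nat_lit 1) (Net.cons (nat_lit 8) (nat_lit 1) (Net.cons (nat_lit 4) (nat_lit 9) (Net.cons (nat_lit 2) (nat_lit 48) (Net.cons (nat_lit 1) (nat_lit 80) Net.nil)))))
noncomputable def A1_5 : Net := (Net.cons (nat_lit 1) (nat_lit 80) (Net.cons (nat_lit 4) (nat_lit 8) (Net.cons (nat_lit 2) (nat_lit 32) (Net.cons (nat_lit 1) (nat_lit 80) Net.nil))))
noncomputable def A1_6 : Net := (Net.cons (nat_lit 1) (nat_lit 64) (Net.cons (nat_lit 2) (nat_lit 16) (Net.cons (nat_lit 4) (nat_lit 1) (Net.cons (nat_lit 8) (nat_lit 1) (Net.cons (nat_lit 4) (nat_lit 1) (Net.cons (nat_lit 1) (nat_lit 16) Net.nil))))))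
noncomputable def A1_7 : Net := (Net.cons (nat_lit 1) (nat_lit 64) (Net.cons (nat_lit 2) (nat_lit 16) (Net.cons (nat_lit 4) (nat_lit 1) (Net.cons (nat_lit 8) (nat_lit 1) (Net.cons (nat_lit 4) (nat_lit 1) (Net.cons (nat_lit 2) (nat_lit 16) Net.nil))))))
noncomputable def A1_8 : Net := (Net.cons (nat_lit 1) (nat_lit 64) (Net.cons (nat_lit 2) (nat_lit 32) Net.nil))
noncomputable def A1_9 : Net := (Net.cons (nat_lit 2) (nat_lit 16) (Net.cons (nat_lit 4) (nat_lit 1) (Net.cons (nat_lit 8) (nat_lit 1) (Net.cons (nat_lit 4) (nat_lit 1) (Net.cons (nat_lit 2) (nat_lit 48) Net.nil)))))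
noncomputable def A1_10 : Net := (Net.cons (nat_lit 2) (nat_lit 16) (Net.cons (nat_lit 4) (nat_lit 1) (Net.cons (nat_lit 8) (nat_lit 1) (Net.cons (nat_lit 4) (nat_lit 1) (Net.cons (nat_lit 2) (nat_lit 16) (Net.cons (nat_lit 1) (nat_lit 64) Net.nil))))))
noncomputable def A1 : List Net := [A1_0, A1_1, A1_2, A1_3, A1_4, A1_5, A1_6, A1_7, A1_8, A1_9, A1_10]
noncomputable def AW : List (List Nat) := [[(nat_lit 8), (nat_lit 11), (nat_lit 15), (nat_lit 7), (nat_lit 15), (nat_lit 9), (nat_lit 15), (nat_lit 15)],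
  [(nat_lit 12), (nat_lit 9), (nat_lit 12), (nat_lit 7), (nat_lit 11), (nat_lit 7), (nat_lit 15)],
  [(nat_lit 18), (nat_lit 19), (nat_lit 17), (nat_lit 20), (nat_lit 18)],
  [(nat_lit 17), (nat_lit 20), (nat_lit 18)],
  [(nat_lit 22), (nat_lit 23), (nat_lit 22), (nat_lit 23), (nat_lit 22)],
  [(nat_lit 22), (nat_lit 22), (nat_lit 24), (nat_lit 24)],
  [(nat_lit 26), (nat_lit 27), (nat_lit 25), (nat_lit 28), (nat_lit 26)],
  [(nat_lit 26), (nat_lit 26), (nat_lit 28), (nat_lit 25), (nat_lit 25)],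
  [(nat_lit 29), (nat_lit 31), (nat_lit 30), (nat_lit 32)],
  [(nat_lit 29), (nat_lit 29), (nat_lit 32), (nat_lit 29)],
  [(nat_lit 34), (nat_lit 35)]]
noncomputable def AC : List Lvl := [⟨(nat_lit 0), [[(nat_lit 7)],
  [(nat_lit 9)],
  [(nat_lit 11)],
  [(nat_lit 13)],
  [(nat_lit 15)]], (nat_lit 4)⟩,
  ⟨(nat_lit 1), [[(nat_lit 17)],
  [(nat_lit 19)]], (nat_lit 4)⟩,
  ⟨(nat_lit 2), [[(nat_lit 21)],
  [(nat_lit 23)]], (nat_lit 3)⟩,
  ⟨(nat_lit 3), [[(nat_lit 25)],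
  [(nat_lit 27)]], (nat_lit 2)⟩,
  ⟨(nat_lit 4), [[(nat_lit 29)],
  [(nat_lit 31)]], (nat_lit 3)⟩,
  ⟨(nat_lit 5), [[(nat_lit 33)],
  [(nat_lit 35)]], (nat_lit 2)⟩,
  ⟨(nat_lit 6), [[(nat_lit 37)]], (nat_lit 2)⟩]

end CF.Dce.Th
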