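import Cfsg.Agent.Comp.Pres
import Cfsg.Agent.Dce.Th.Rels
import Cfsg.Agent.Dce.Th.ED

set_option autoImplicit false
set_option maxRecDepth 1000000
set_option maxHeartbeats 0
set_option Elab.async false

namespace CF.Dce.Th
open CF.Comp

theorem e2_all : Cov e2_F 16 8 0 := by
  have h := Cov.zero e2_F 16
  have h := h.blk (b := 16) e2_k0_0 rfl
  have h := h.next (y := 1) rfl rfl
  have h := h.blk (b := 16) e2_k1_0 rfl
  have h := h.next (y := 2) rfl rfl
  have h := h.blk (b := 16) e2_k2_0 rfl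
  have h := h.next (y := 3) rfl rfl
  have h := h.blk (b := 16) e2_k3_0 rfl
  have h := h.next (y := 4) rfl rfl
  have h := h.blk (b := 16) e2_k4_0 rfl
  have h := h.next (y := 5) rfl rfl
  have h := h.blk (b := 16) e2_k5_0 rfl
  have h := h.next (y := 6) rfl rfl
  have h := h.blk (b := 16) e2_k6_0 rfl
  have h := h.next (y := 7) rfl rfl
  have h := h.blk (b := 16) e2_k7_0 rfl
  have h := h.next (y := 8) rfl rfl
  exact h

theorem e2 : Enum R2 H3 H2 1008 :=
  ⟨e2_cols, e2_ch, e2_L, e2_H, e2_pb.1, e2_e.get, [(nat_lit 0), (nat_lit 1), (nat_lit 3), (nat_lit 5), (nat_lit 7), (nat_lit 9), (nat_lit 13), (nat_lit 14)], (nat_lit 31), (nat_lit 8), e2_rots, e2_hcs,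
    (nat_lit 1009), (nat_lit 8), (nat_lit 1024), (nat_lit 64), (nat_lit 65536), (nat_lit 65535), (nat_lit 8), (nat_lit 255), (nat_lit 22), (nat_lit 4194303), (nat_lit 4), (nat_lit 16),
    fun _ _ => rfl, fun _ => rfl, fun _ _ => rfl, by decide +kernel, e2_all.1⟩

theorem e3_all : Cov e3_F 4 6 0 := by
  have h := Cov.zero e3_F 4
  have h := h.blk (b := 4) e3_k0_0 rfl
  have h := h.next (y := 1) rfl rfl
  have h := h.blk (b := 4) e3_k1_0 rfl
  have h := h.next (y := 2) rfl rfl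
  have h := h.blk (b := 4) e3_k2_0 rfl
  have h := h.next (y := 3) rfl rfl
  have h := h.blk (b := 4) e3_k3_0 rfl
  have h := h.next (y := 4) rfl rfl
  have h := h.blk (b := 4) e3_k4_0 rfl
  have h := h.next (y := 5) rfl rfl
  have h := h.blk (b := 4) e3_k5_0 rfl
  have h := h.next (y := 6) rfl rfl
  exact h

theorem e3 : Enum R3 [] H3 36 :=
  ⟨e3_cols, e3_ch, e3_L, e3_H, e3_pb.1, e3_e.get, [(nat_lit 0), (nat_lit 1), (nat_lit 3), (nat_lit 9), (nat_lit 13), (nat_lit 14)], (nat_lit 19), (nat_lit 8), e3_rots, e3_hcs,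
    (nat_lit 37), (nat_lit 6), (nat_lit 64), (nat_lit 32), (nat_lit 2048), (nat_lit 4095), (nat_lit 8), (nat_lit 255), (nat_lit 14), (nat_lit 16383), (nat_lit 1), (nat_lit 4),
    fun _ _ => rfl, fun _ => rfl, fun _ _ => rfl, by decide +kernel, e3_all.1⟩

theorem c1_all : Cov c1_F 8 11 0 := by
  have h := Cov.zero c1_F 8
  have h := h.blk (b := 8) c1_k0_0 rfl
  have h := h.next (y := 1) rfl rfl
  have h := h.blk (b := 8) c1_k1_0 rfl
  have h := h.next (y := 2) rfl rfl
  have h := h.blk (b := 8) c1_k2_0 rfl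
  have h := h.next (y := 3) rfl rfl
  have h := h.blk (b := 8) c1_k3_0 rfl
  have h := h.next (y := 4) rfl rfl
  have h := h.blk (b := 8) c1_k4_0 rfl
  have h := h.next (y := 5) rfl rfl
  have h := h.blk (b := 8) c1_k5_0 rfl
  have h := h.next (y := 6) rfl rfl
  have h := h.blk (b := 8) c1_k6_0 rfl
  have h := h.next (y := 7) rfl rfl
  have h := h.blk (b := 8) c1_k7_0 rfl
  have h := h.next (y := 8) rfl rfl
  have h := h.blk (b := 8) c1_k8_0 rfl
  have h := h.next (y := 9) rfl rfl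
  have h := h.blk (b := 8) c1_k9_0 rfl
  have h := h.next (y := 10) rfl rfl
  have h := h.blk (b := 8) c1_k10_0 rfl
  have h := h.next (y := 11) rfl rfl
  exact h

theorem c1 : Enum RC C2 C1 120 :=
  ⟨c1_cols, c1_ch, c1_L, c1_H, c1_pb.1, c1_e.get, [(nat_lit 0), (nat_lit 1), (nat_lit 5), (nat_lit 7), (nat_lit 9), (nat_lit 11), (nat_lit 12), (nat_lit 13), (nat_lit 14), (nat_lit 15), (nat_lit 16)], (nat_lit 29), (nat_lit 8), c1_rots, c1_hcs,
    (nat_lit 121), (nat_lit 11), (nat_lit 512), (nat_lit 256), (nat_lit 131072), (nat_lit 32767), (nat_lit 8), (nat_lit 255), (nat_lit 23), (nat_lit 8388607), (nat_lit 2), (nat_lit 8),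
    fun _ _ => rfl, fun _ => rfl, fun _ _ => rfl, by decide +kernel, c1_all.1⟩

theorem c2_all : Cov c2_F 12 9 0 := by
  have h := Cov.zero c2_F 12
  have h := h.blk (b := 12) c2_k0_0 rfl
  have h := h.next (y := 1) rfl rfl
  have h := h.blk (b := 12) c2_k1_0 rfl
  have h := h.next (y := 2) rfl rfl
  have h := h.blk (b := 12) c2_k2_0 rfl
  have h := h.next (y := 3) rfl rfl
  have h := h.blk (b := 12) c2_k3_0 rfl
  have h := h.next (y := 4) rfl rfl
  have h := h.blk (b := 12) c2_k4_0 rfl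
  have h := h.next (y := 5) rfl rfl
  have h := h.blk (b := 12) c2_k5_0 rfl
  have h := h.next (y := 6) rfl rfl
  have h := h.blk (b := 12) c2_k6_0 rfl
  have h := h.next (y := 7) rfl rfl
  have h := h.blk (b := 12) c2_k7_0 rfl
  have h := h.next (y := 8) rfl rfl
  have h := h.blk (b := 12) c2_k8_0 rfl
  have h := h.next (y := 9) rfl rfl
  exact h

theorem c2 : Enum RC2 C3 C2 512 :=
  ⟨c2_cols, c2_ch, c2_L, c2_H, c2_pb.1, c2_e.get, [(nat_lit 0), (nat_lit 1), (nat_lit 5), (nat_lit 7), (nat_lit 9), (nat_lit 11), (nat_lit 12), (nat_lit 13), (nat_lit 14)], (nat_lit 29), (nat_lit 8), c2_rots, c2_hcs,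
    (nat_lit 513), (nat_lit 9), (nat_lit 1024), (nat_lit 128), (nat_lit 131072), (nat_lit 65535), (nat_lit 8), (nat_lit 255), (nat_lit 24), (nat_lit 16777215), (nat_lit 3), (nat_lit 12),
    fun _ _ => rfl, fun _ => rfl, fun _ _ => rfl, by decide +kernel, c2_all.1⟩

theorem c3_all : Cov c3_F 4 7 0 := by
  have h := Cov.zero c3_F 4
  have h := h.blk (b := 4) c3_k0_0 rfl
  have h := h.next (y := 1) rfl rfl
  have h := h.blk (b := 4) c3_k1_0 rfl
  have h := h.next (y := 2) rfl rfl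
  have h := h.blk (b := 4) c3_k2_0 rfl
  have h := h.next (y := 3) rfl rfl
  have h := h.blk (b := 4) c3_k3_0 rfl
  have h := h.next (y := 4) rfl rfl
  have h := h.blk (b := 4) c3_k4_0 rfl
  have h := h.next (y := 5) rfl rfl
  have h := h.blk (b := 4) c3_k5_0 rfl
  have h := h.next (y := 6) rfl rfl
  have h := h.blk (b := 4) c3_k6_0 rfl
  have h := h.next (y := 7) rfl rfl
  exact h

theorem c3 : Enum RC3 C4 C3 216 :=
  ⟨c3_cols, c3_ch, c3_L, c3_H, c3_pb.1, c3_e.get, [(nat_lit 0), (nat_lit 7), (nat_lit 9), (nat_lit 11), (nat_lit 12), (nat_lit 13), (nat_lit 14)], (nat_lit 24), (nat_lit 8), c3_rots, c3_hcs,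
    (nat_lit 217), (nat_lit 7), (nat_lit 256), (nat_lit 64), (nat_lit 16384), (nat_lit 16383), (nat_lit 8), (nat_lit 255), (nat_lit 19), (nat_lit 524287), (nat_lit 1), (nat_lit 4),
    fun _ _ => rfl, fun _ => rfl, fun _ _ => rfl, by decide +kernel, c3_all.1⟩


end CF.Dce.Th
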