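import Cfsg.Agent.Dce.Defs

set_option autoImplicit false
set_option maxRecDepth 1000000
set_option maxHeartbeats 0
set_option Elab.async false

namespace CF.Dce.Th
open CF.Comp

noncomputable def N0 : List (List Nat × List Nat) := [([(nat_lit 1)], [(nat_lit 1)]),
  ([(nat_lit 5)], [(nat_lit 5)]),
  ([(nat_lit 9)], [(nat_lit 9)]),
  ([(nat_lit 13)], [(nat_lit 14)]),
  ([(nat_lit 11), (nat_lit 11), (nat_lit 9), (nat_lit 12), (nat_lit 12)], [(nat_lit 11), (nat_lit 11), (nat_lit 9), (nat_lit 12), (nat_lit 12)]),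
  ([(nat_lit 3), (nat_lit 1), (nat_lit 5), (nat_lit 3)], [(nat_lit 3), (nat_lit 1), (nat_lit 5), (nat_lit 3), (nat_lit 9)])]
noncomputable def N1 : List (List Nat × List Nat) := [([(nat_lit 7), (nat_lit 5), (nat_lit 7), (nat_lit 9), (nat_lit 7), (nat_lit 5), (nat_lit 7)], [(nat_lit 7), (nat_lit 5), (nat_lit 7), (nat_lit 9), (nat_lit 5), (nat_lit 7), (nat_lit 5), (nat_lit 7)]),
  ([(nat_lit 9), (nat_lit 12), (nat_lit 7), (nat_lit 5), (nat_lit 7), (nat_lit 9), (nat_lit 11), (nat_lit 7), (nat_lit 5), (nat_lit 7), (nat_lit 9)], [(nat_lit 11), (nat_lit 7), (nat_lit 5), (nat_lit 7), (nat_lit 9), (nat_lit 12), (nat_lit 9), (nat_lit 7), (nat_lit 5), (nat_lit 7)]),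
  ([(nat_lit 7), (nat_lit 5), (nat_lit 7), (nat_lit 5)], [(nat_lit 9), (nat_lit 12), (nat_lit 9), (nat_lit 12), (nat_lit 7), (nat_lit 5), (nat_lit 7), (nat_lit 9), (nat_lit 11), (nat_lit 7), (nat_lit 5), (nat_lit 7), (nat_lit 9), (nat_lit 11), (nat_lit 11), (nat_lit 7), (nat_lit 5), (nat_lit 7), (nat_lit 9), (nat_lit 12)])]
noncomputable def Ts : List (List (List Nat)) := [[[(nat_lit 5), (nat_lit 1), (nat_lit 7), (nat_lit 5), (nat_lit 7), (nat_lit 9), (nat_lit 7), (nat_lit 5), (nat_lit 7)],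
  [(nat_lit 7), (nat_lit 5), (nat_lit 7), (nat_lit 5), (nat_lit 9), (nat_lit 7), (nat_lit 5), (nat_lit 7)]],
 [[(nat_lit 5), (nat_lit 1), (nat_lit 9), (nat_lit 12), (nat_lit 7), (nat_lit 5), (nat_lit 7), (nat_lit 9), (nat_lit 11), (nat_lit 7), (nat_lit 5), (nat_lit 7), (nat_lit 9)],
  [(nat_lit 7), (nat_lit 5), (nat_lit 7), (nat_lit 9), (nat_lit 11), (nat_lit 9), (nat_lit 7), (nat_lit 5), (nat_lit 7), (nat_lit 12)]],
 [[(nat_lit 5), (nat_lit 1), (nat_lit 7), (nat_lit 5), (nat_lit 7), (nat_lit 5)],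
  [(nat_lit 11), (nat_lit 9), (nat_lit 7), (nat_lit 5), (nat_lit 7), (nat_lit 12), (nat_lit 12), (nat_lit 9), (nat_lit 7), (nat_lit 5), (nat_lit 7), (nat_lit 12), (nat_lit 9), (nat_lit 7), (nat_lit 5), (nat_lit 7), (nat_lit 11), (nat_lit 9), (nat_lit 11), (nat_lit 9)]]]
noncomputable def Ns : List (List Nat × List Nat) := lapp N0 N1
noncomputable def NX : List (List Nat × List Nat) := [([(nat_lit 1)], [(nat_lit 1)]),
  ([(nat_lit 5)], [(nat_lit 5)]),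
  ([(nat_lit 9)], [(nat_lit 9)]),
  ([(nat_lit 13)], [(nat_lit 14)]),
  ([(nat_lit 11), (nat_lit 11), (nat_lit 9), (nat_lit 12), (nat_lit 12)], [(nat_lit 11), (nat_lit 11), (nat_lit 9), (nat_lit 12), (nat_lit 12)])]
noncomputable def cN : List (List (List Nat × Nat)) := [[([(nat_lit 15)], (nat_lit 57))],
  [([(nat_lit 15)], (nat_lit 59))],
  [([(nat_lit 15)], (nat_lit 61))],
  [([(nat_lit 15)], (nat_lit 69))],
  [([(nat_lit 15), (nat_lit 11), (nat_lit 11), (nat_lit 10)], (nat_lit 71))],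
  [([(nat_lit 15), (nat_lit 4), (nat_lit 2), (nat_lit 6), (nat_lit 4), (nat_lit 10)], (nat_lit 66))]]
noncomputable def cNX : List (List (List Nat × Nat)) := [[([(nat_lit 15)], (nat_lit 57))],
  [([(nat_lit 15)], (nat_lit 59))],
  [([(nat_lit 15)], (nat_lit 61))],
  [([(nat_lit 15)], (nat_lit 69))],
  [([(nat_lit 15), (nat_lit 11), (nat_lit 11), (nat_lit 10)], (nat_lit 71))]]
noncomputable def cW : List (List (List Nat)) := [[[(nat_lit 5), (nat_lit 1), (nat_lit 7)],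
  [(nat_lit 7), (nat_lit 9)],
  [(nat_lit 5), (nat_lit 1), (nat_lit 7)],
  [(nat_lit 7), (nat_lit 9)]],
 [[(nat_lit 7), (nat_lit 9)],
  [(nat_lit 5), (nat_lit 1), (nat_lit 7)],
  [(nat_lit 7), (nat_lit 9)],
  [(nat_lit 5), (nat_lit 1), (nat_lit 7)]],
 [[(nat_lit 5), (nat_lit 1), (nat_lit 7)],
  [(nat_lit 9), (nat_lit 7)],
  [(nat_lit 5), (nat_lit 1), (nat_lit 7)],
  [(nat_lit 9), (nat_lit 7)]],
 [[(nat_lit 9), (nat_lit 7)],
  [(nat_lit 5), (nat_lit 1), (nat_lit 7)],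
  [(nat_lit 9), (nat_lit 7)],
  [(nat_lit 5), (nat_lit 1), (nat_lit 7)]],
 [[(nat_lit 5), (nat_lit 1), (nat_lit 7), (nat_lit 3), (nat_lit 5), (nat_lit 1), (nat_lit 3), (nat_lit 7)],
  [(nat_lit 7), (nat_lit 3), (nat_lit 1), (nat_lit 5), (nat_lit 3), (nat_lit 5), (nat_lit 9), (nat_lit 7)],
  [(nat_lit 5), (nat_lit 1), (nat_lit 7), (nat_lit 3), (nat_lit 5), (nat_lit 1), (nat_lit 3), (nat_lit 9)],
  [(nat_lit 5), (nat_lit 1), (nat_lit 7)]],
 [[(nat_lit 7), (nat_lit 3), (nat_lit 1), (nat_lit 5), (nat_lit 3), (nat_lit 5), (nat_lit 9), (nat_lit 7)],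
  [(nat_lit 5), (nat_lit 1), (nat_lit 7), (nat_lit 3), (nat_lit 5), (nat_lit 1), (nat_lit 3), (nat_lit 9)],
  [(nat_lit 5), (nat_lit 1), (nat_lit 7)],
  [(nat_lit 5), (nat_lit 1), (nat_lit 7), (nat_lit 3), (nat_lit 5), (nat_lit 1), (nat_lit 3), (nat_lit 7)]],
 [[(nat_lit 5), (nat_lit 1), (nat_lit 7), (nat_lit 3), (nat_lit 5), (nat_lit 1), (nat_lit 3), (nat_lit 9)],
  [(nat_lit 5), (nat_lit 1), (nat_lit 7)],
  [(nat_lit 5), (nat_lit 1), (nat_lit 7), (nat_lit 3), (nat_lit 5), (nat_lit 1), (nat_lit 3), (nat_lit 7)],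
  [(nat_lit 7), (nat_lit 3), (nat_lit 1), (nat_lit 5), (nat_lit 3), (nat_lit 5), (nat_lit 9), (nat_lit 7)]],
 [[(nat_lit 5), (nat_lit 1), (nat_lit 7)],
  [(nat_lit 5), (nat_lit 1), (nat_lit 7), (nat_lit 3), (nat_lit 5), (nat_lit 1), (nat_lit 3), (nat_lit 7)],
  [(nat_lit 7), (nat_lit 3), (nat_lit 1), (nat_lit 5), (nat_lit 3), (nat_lit 5), (nat_lit 9), (nat_lit 7)],
  [(nat_lit 5), (nat_lit 1), (nat_lit 7), (nat_lit 3), (nat_lit 5), (nat_lit 1), (nat_lit 3), (nat_lit 9)]],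
 [[(nat_lit 9), (nat_lit 3), (nat_lit 1), (nat_lit 5), (nat_lit 3), (nat_lit 7)],
  [(nat_lit 7), (nat_lit 9), (nat_lit 5), (nat_lit 3), (nat_lit 5), (nat_lit 1), (nat_lit 3), (nat_lit 7)],
  [(nat_lit 5), (nat_lit 1), (nat_lit 7), (nat_lit 3), (nat_lit 1), (nat_lit 5), (nat_lit 3), (nat_lit 7)],
  [(nat_lit 7)]],
 [[(nat_lit 7), (nat_lit 9), (nat_lit 5), (nat_lit 3), (nat_lit 5), (nat_lit 1), (nat_lit 3), (nat_lit 7)],
  [(nat_lit 5), (nat_lit 1), (nat_lit 7), (nat_lit 3), (nat_lit 1), (nat_lit 5), (nat_lit 3), (nat_lit 7)],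
  [(nat_lit 7)],
  [(nat_lit 9), (nat_lit 3), (nat_lit 1), (nat_lit 5), (nat_lit 3), (nat_lit 7)]],
 [[(nat_lit 5), (nat_lit 1), (nat_lit 7), (nat_lit 3), (nat_lit 1), (nat_lit 5), (nat_lit 3), (nat_lit 7)],
  [(nat_lit 7)],
  [(nat_lit 9), (nat_lit 3), (nat_lit 1), (nat_lit 5), (nat_lit 3), (nat_lit 7)],
  [(nat_lit 7), (nat_lit 9), (nat_lit 5), (nat_lit 3), (nat_lit 5), (nat_lit 1), (nat_lit 3), (nat_lit 7)]],
 [[(nat_lit 7)],
  [(nat_lit 9), (nat_lit 3), (nat_lit 1), (nat_lit 5), (nat_lit 3), (nat_lit 7)],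
  [(nat_lit 7), (nat_lit 9), (nat_lit 5), (nat_lit 3), (nat_lit 5), (nat_lit 1), (nat_lit 3), (nat_lit 7)],
  [(nat_lit 5), (nat_lit 1), (nat_lit 7), (nat_lit 3), (nat_lit 1), (nat_lit 5), (nat_lit 3), (nat_lit 7)]],
 [[(nat_lit 5), (nat_lit 1), (nat_lit 12)],
  [(nat_lit 5), (nat_lit 1), (nat_lit 12)],
  [(nat_lit 12)]],
 [[(nat_lit 5), (nat_lit 1), (nat_lit 12)],
  [(nat_lit 12)],
  [(nat_lit 5), (nat_lit 1), (nat_lit 12)]],
 [[(nat_lit 12)],
  [(nat_lit 5), (nat_lit 1), (nat_lit 12)],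
  [(nat_lit 5), (nat_lit 1), (nat_lit 12)]],
 [[(nat_lit 11)],
  [(nat_lit 11)],
  [(nat_lit 11), (nat_lit 5), (nat_lit 1)]],
 [[(nat_lit 11)],
  [(nat_lit 11), (nat_lit 5), (nat_lit 1)],
  [(nat_lit 11)]],
 [[(nat_lit 11), (nat_lit 5), (nat_lit 1)],
  [(nat_lit 11)],
  [(nat_lit 11)]],
 [[(nat_lit 5), (nat_lit 1), (nat_lit 11)],
  [(nat_lit 12)],
  [(nat_lit 5), (nat_lit 1), (nat_lit 11)],
  [(nat_lit 12)],
  [(nat_lit 5), (nat_lit 1), (nat_lit 11)],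
  [(nat_lit 12)],
  [(nat_lit 5), (nat_lit 1), (nat_lit 11)],
  [(nat_lit 1), (nat_lit 5), (nat_lit 12)]],
 [[(nat_lit 12)],
  [(nat_lit 5), (nat_lit 1), (nat_lit 11)],
  [(nat_lit 12)],
  [(nat_lit 5), (nat_lit 1), (nat_lit 11)],
  [(nat_lit 12)],
  [(nat_lit 5), (nat_lit 1), (nat_lit 11)],
  [(nat_lit 1), (nat_lit 5), (nat_lit 12)],
  [(nat_lit 5), (nat_lit 1), (nat_lit 11)]],
 [[(nat_lit 5), (nat_lit 1), (nat_lit 11)],
  [(nat_lit 12)],
  [(nat_lit 5), (nat_lit 1), (nat_lit 11)],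
  [(nat_lit 12)],
  [(nat_lit 5), (nat_lit 1), (nat_lit 11)],
  [(nat_lit 1), (nat_lit 5), (nat_lit 12)],
  [(nat_lit 5), (nat_lit 1), (nat_lit 11)],
  [(nat_lit 12)]],
 [[(nat_lit 12)],
  [(nat_lit 5), (nat_lit 1), (nat_lit 11)],
  [(nat_lit 12)],
  [(nat_lit 5), (nat_lit 1), (nat_lit 11)],
  [(nat_lit 1), (nat_lit 5), (nat_lit 12)],
  [(nat_lit 5), (nat_lit 1), (nat_lit 11)],
  [(nat_lit 12)],
  [(nat_lit 5), (nat_lit 1), (nat_lit 11)]],
 [[(nat_lit 5), (nat_lit 1), (nat_lit 11)],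
  [(nat_lit 12)],
  [(nat_lit 5), (nat_lit 1), (nat_lit 11)],
  [(nat_lit 1), (nat_lit 5), (nat_lit 12)],
  [(nat_lit 5), (nat_lit 1), (nat_lit 11)],
  [(nat_lit 12)],
  [(nat_lit 5), (nat_lit 1), (nat_lit 11)],
  [(nat_lit 12)]],
 [[(nat_lit 12)],
  [(nat_lit 5), (nat_lit 1), (nat_lit 11)],
  [(nat_lit 1), (nat_lit 5), (nat_lit 12)],
  [(nat_lit 5), (nat_lit 1), (nat_lit 11)],
  [(nat_lit 12)],
  [(nat_lit 5), (nat_lit 1), (nat_lit 11)],
  [(nat_lit 12)],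
  [(nat_lit 5), (nat_lit 1), (nat_lit 11)]],
 [[(nat_lit 5), (nat_lit 1), (nat_lit 11)],
  [(nat_lit 1), (nat_lit 5), (nat_lit 12)],
  [(nat_lit 5), (nat_lit 1), (nat_lit 11)],
  [(nat_lit 12)],
  [(nat_lit 5), (nat_lit 1), (nat_lit 11)],
  [(nat_lit 12)],
  [(nat_lit 5), (nat_lit 1), (nat_lit 11)],
  [(nat_lit 12)]],
 [[(nat_lit 1), (nat_lit 5), (nat_lit 12)],
  [(nat_lit 5), (nat_lit 1), (nat_lit 11)],
  [(nat_lit 12)],
  [(nat_lit 5), (nat_lit 1), (nat_lit 11)],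
  [(nat_lit 12)],
  [(nat_lit 5), (nat_lit 1), (nat_lit 11)],
  [(nat_lit 12)],
  [(nat_lit 5), (nat_lit 1), (nat_lit 11)]],
 [[(nat_lit 5), (nat_lit 1), (nat_lit 12)],
  [(nat_lit 11)],
  [(nat_lit 5), (nat_lit 1), (nat_lit 12)],
  [(nat_lit 11)],
  [(nat_lit 5), (nat_lit 1), (nat_lit 12)],
  [(nat_lit 11)],
  [(nat_lit 5), (nat_lit 1), (nat_lit 12)],
  [(nat_lit 11), (nat_lit 5), (nat_lit 1)]],
 [[(nat_lit 11)],
  [(nat_lit 5), (nat_lit 1), (nat_lit 12)],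
  [(nat_lit 11)],
  [(nat_lit 5), (nat_lit 1), (nat_lit 12)],
  [(nat_lit 11)],
  [(nat_lit 5), (nat_lit 1), (nat_lit 12)],
  [(nat_lit 11), (nat_lit 5), (nat_lit 1)],
  [(nat_lit 5), (nat_lit 1), (nat_lit 12)]],
 [[(nat_lit 5), (nat_lit 1), (nat_lit 12)],
  [(nat_lit 11)],
  [(nat_lit 5), (nat_lit 1), (nat_lit 12)],
  [(nat_lit 11)],
  [(nat_lit 5), (nat_lit 1), (nat_lit 12)],
  [(nat_lit 11), (nat_lit 5), (nat_lit 1)],
  [(nat_lit 5), (nat_lit 1), (nat_lit 12)],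
  [(nat_lit 11)]],
 [[(nat_lit 11)],
  [(nat_lit 5), (nat_lit 1), (nat_lit 12)],
  [(nat_lit 11)],
  [(nat_lit 5), (nat_lit 1), (nat_lit 12)],
  [(nat_lit 11), (nat_lit 5), (nat_lit 1)],
  [(nat_lit 5), (nat_lit 1), (nat_lit 12)],
  [(nat_lit 11)],
  [(nat_lit 5), (nat_lit 1), (nat_lit 12)]],
 [[(nat_lit 5), (nat_lit 1), (nat_lit 12)],
  [(nat_lit 11)],
  [(nat_lit 5), (nat_lit 1), (nat_lit 12)],
  [(nat_lit 11), (nat_lit 5), (nat_lit 1)],
  [(nat_lit 5), (nat_lit 1), (nat_lit 12)],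
  [(nat_lit 11)],
  [(nat_lit 5), (nat_lit 1), (nat_lit 12)],
  [(nat_lit 11)]],
 [[(nat_lit 11)],
  [(nat_lit 5), (nat_lit 1), (nat_lit 12)],
  [(nat_lit 11), (nat_lit 5), (nat_lit 1)],
  [(nat_lit 5), (nat_lit 1), (nat_lit 12)],
  [(nat_lit 11)],
  [(nat_lit 5), (nat_lit 1), (nat_lit 12)],
  [(nat_lit 11)],
  [(nat_lit 5), (nat_lit 1), (nat_lit 12)]],
 [[(nat_lit 5), (nat_lit 1), (nat_lit 12)],
  [(nat_lit 11), (nat_lit 5), (nat_lit 1)],
  [(nat_lit 5), (nat_lit 1), (nat_lit 12)],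
  [(nat_lit 11)],
  [(nat_lit 5), (nat_lit 1), (nat_lit 12)],
  [(nat_lit 11)],
  [(nat_lit 5), (nat_lit 1), (nat_lit 12)],
  [(nat_lit 11)]],
 [[(nat_lit 11), (nat_lit 5), (nat_lit 1)],
  [(nat_lit 5), (nat_lit 1), (nat_lit 12)],
  [(nat_lit 11)],
  [(nat_lit 5), (nat_lit 1), (nat_lit 12)],
  [(nat_lit 11)],
  [(nat_lit 5), (nat_lit 1), (nat_lit 12)],
  [(nat_lit 11)],
  [(nat_lit 5), (nat_lit 1), (nat_lit 12)]],
 [[(nat_lit 11), (nat_lit 11), (nat_lit 7), (nat_lit 12), (nat_lit 12)],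
  [(nat_lit 11), (nat_lit 11), (nat_lit 7), (nat_lit 12), (nat_lit 12)],
  [(nat_lit 11), (nat_lit 11), (nat_lit 7), (nat_lit 12), (nat_lit 12)],
  [(nat_lit 9), (nat_lit 7), (nat_lit 5), (nat_lit 7), (nat_lit 9), (nat_lit 11), (nat_lit 11), (nat_lit 11), (nat_lit 9), (nat_lit 7), (nat_lit 5), (nat_lit 7), (nat_lit 9), (nat_lit 12), (nat_lit 7), (nat_lit 5), (nat_lit 7), (nat_lit 5), (nat_lit 1), (nat_lit 7), (nat_lit 12), (nat_lit 12)]],
 [[(nat_lit 11), (nat_lit 11), (nat_lit 7), (nat_lit 12), (nat_lit 12)],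
  [(nat_lit 11), (nat_lit 11), (nat_lit 7), (nat_lit 12), (nat_lit 12)],
  [(nat_lit 9), (nat_lit 7), (nat_lit 5), (nat_lit 7), (nat_lit 9), (nat_lit 11), (nat_lit 11), (nat_lit 11), (nat_lit 9), (nat_lit 7), (nat_lit 5), (nat_lit 7), (nat_lit 9), (nat_lit 12), (nat_lit 7), (nat_lit 5), (nat_lit 7), (nat_lit 5), (nat_lit 1), (nat_lit 7), (nat_lit 12), (nat_lit 12)],
  [(nat_lit 11), (nat_lit 11), (nat_lit 7), (nat_lit 12), (nat_lit 12)]],
 [[(nat_lit 11), (nat_lit 11), (nat_lit 7), (nat_lit 12), (nat_lit 12)],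
  [(nat_lit 9), (nat_lit 7), (nat_lit 5), (nat_lit 7), (nat_lit 9), (nat_lit 11), (nat_lit 11), (nat_lit 11), (nat_lit 9), (nat_lit 7), (nat_lit 5), (nat_lit 7), (nat_lit 9), (nat_lit 12), (nat_lit 7), (nat_lit 5), (nat_lit 7), (nat_lit 5), (nat_lit 1), (nat_lit 7), (nat_lit 12), (nat_lit 12)],
  [(nat_lit 11), (nat_lit 11), (nat_lit 7), (nat_lit 12), (nat_lit 12)],
  [(nat_lit 11), (nat_lit 11), (nat_lit 7), (nat_lit 12), (nat_lit 12)]],
 [[(nat_lit 9), (nat_lit 7), (nat_lit 5), (nat_lit 7), (nat_lit 9), (nat_lit 11), (nat_lit 11), (nat_lit 11), (nat_lit 9), (nat_lit 7), (nat_lit 5), (nat_lit 7), (nat_lit 9), (nat_lit 12), (nat_lit 7), (nat_lit 5), (nat_lit 7), (nat_lit 5), (nat_lit 1), (nat_lit 7), (nat_lit 12), (nat_lit 12)],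
  [(nat_lit 11), (nat_lit 11), (nat_lit 7), (nat_lit 12), (nat_lit 12)],
  [(nat_lit 11), (nat_lit 11), (nat_lit 7), (nat_lit 12), (nat_lit 12)],
  [(nat_lit 11), (nat_lit 11), (nat_lit 7), (nat_lit 12), (nat_lit 12)]],
 [[(nat_lit 5), (nat_lit 1), (nat_lit 11), (nat_lit 11), (nat_lit 7), (nat_lit 12), (nat_lit 12)],
  [(nat_lit 5), (nat_lit 1), (nat_lit 11), (nat_lit 11), (nat_lit 7), (nat_lit 12), (nat_lit 12)],
  [(nat_lit 5), (nat_lit 1), (nat_lit 11), (nat_lit 11), (nat_lit 7), (nat_lit 12), (nat_lit 12)],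
  [(nat_lit 5), (nat_lit 1), (nat_lit 11), (nat_lit 11), (nat_lit 7), (nat_lit 1), (nat_lit 5), (nat_lit 7), (nat_lit 5), (nat_lit 7), (nat_lit 11), (nat_lit 9), (nat_lit 7), (nat_lit 5), (nat_lit 7), (nat_lit 9), (nat_lit 12), (nat_lit 12), (nat_lit 12), (nat_lit 9), (nat_lit 7), (nat_lit 5), (nat_lit 7), (nat_lit 9)]],
 [[(nat_lit 5), (nat_lit 1), (nat_lit 11), (nat_lit 11), (nat_lit 7), (nat_lit 12), (nat_lit 12)],
  [(nat_lit 5), (nat_lit 1), (nat_lit 11), (nat_lit 11), (nat_lit 7), (nat_lit 12), (nat_lit 12)],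
  [(nat_lit 5), (nat_lit 1), (nat_lit 11), (nat_lit 11), (nat_lit 7), (nat_lit 1), (nat_lit 5), (nat_lit 7), (nat_lit 5), (nat_lit 7), (nat_lit 11), (nat_lit 9), (nat_lit 7), (nat_lit 5), (nat_lit 7), (nat_lit 9), (nat_lit 12), (nat_lit 12), (nat_lit 12), (nat_lit 9), (nat_lit 7), (nat_lit 5), (nat_lit 7), (nat_lit 9)],
  [(nat_lit 5), (nat_lit 1), (nat_lit 11), (nat_lit 11), (nat_lit 7), (nat_lit 12), (nat_lit 12)]],
 [[(nat_lit 5), (nat_lit 1), (nat_lit 11), (nat_lit 11), (nat_lit 7), (nat_lit 12), (nat_lit 12)],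
  [(nat_lit 5), (nat_lit 1), (nat_lit 11), (nat_lit 11), (nat_lit 7), (nat_lit 1), (nat_lit 5), (nat_lit 7), (nat_lit 5), (nat_lit 7), (nat_lit 11), (nat_lit 9), (nat_lit 7), (nat_lit 5), (nat_lit 7), (nat_lit 9), (nat_lit 12), (nat_lit 12), (nat_lit 12), (nat_lit 9), (nat_lit 7), (nat_lit 5), (nat_lit 7), (nat_lit 9)],
  [(nat_lit 5), (nat_lit 1), (nat_lit 11), (nat_lit 11), (nat_lit 7), (nat_lit 12), (nat_lit 12)],
  [(nat_lit 5), (nat_lit 1), (nat_lit 11), (nat_lit 11), (nat_lit 7), (nat_lit 12), (nat_lit 12)]],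
 [[(nat_lit 5), (nat_lit 1), (nat_lit 11), (nat_lit 11), (nat_lit 7), (nat_lit 1), (nat_lit 5), (nat_lit 7), (nat_lit 5), (nat_lit 7), (nat_lit 11), (nat_lit 9), (nat_lit 7), (nat_lit 5), (nat_lit 7), (nat_lit 9), (nat_lit 12), (nat_lit 12), (nat_lit 12), (nat_lit 9), (nat_lit 7), (nat_lit 5), (nat_lit 7), (nat_lit 9)],
  [(nat_lit 5), (nat_lit 1), (nat_lit 11), (nat_lit 11), (nat_lit 7), (nat_lit 12), (nat_lit 12)],
  [(nat_lit 5), (nat_lit 1), (nat_lit 11), (nat_lit 11), (nat_lit 7), (nat_lit 12), (nat_lit 12)],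
  [(nat_lit 5), (nat_lit 1), (nat_lit 11), (nat_lit 11), (nat_lit 7), (nat_lit 12), (nat_lit 12)]]]
noncomputable def cQ : List (List (List Nat × Nat)) := [[([(nat_lit 6), (nat_lit 2), (nat_lit 7), (nat_lit 15), (nat_lit 7), (nat_lit 9), (nat_lit 16)], (nat_lit 55)), ([(nat_lit 16), (nat_lit 16)], (nat_lit 55)), ([(nat_lit 16), (nat_lit 10), (nat_lit 8)], (nat_lit 63))],
  [([(nat_lit 7), (nat_lit 9), (nat_lit 15), (nat_lit 6), (nat_lit 2), (nat_lit 7), (nat_lit 15), (nat_lit 7), (nat_lit 9), (nat_lit 16)], (nat_lit 55)), ([(nat_lit 7), (nat_lit 9), (nat_lit 16)], (nat_lit 55)), ([], (nat_lit 63))],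
  [([(nat_lit 6), (nat_lit 2), (nat_lit 8), (nat_lit 15), (nat_lit 10), (nat_lit 8), (nat_lit 16)], (nat_lit 55)), ([(nat_lit 16), (nat_lit 16)], (nat_lit 55)), ([(nat_lit 16)], (nat_lit 64))],
  [([(nat_lit 10), (nat_lit 8), (nat_lit 16)], (nat_lit 55)), ([(nat_lit 16), (nat_lit 7), (nat_lit 1), (nat_lit 5), (nat_lit 16), (nat_lit 16)], (nat_lit 55)), ([(nat_lit 16), (nat_lit 7), (nat_lit 1), (nat_lit 5), (nat_lit 16)], (nat_lit 64))],
  [([(nat_lit 6), (nat_lit 2), (nat_lit 7), (nat_lit 4), (nat_lit 6), (nat_lit 2), (nat_lit 3), (nat_lit 8), (nat_lit 15), (nat_lit 7), (nat_lit 4), (nat_lit 1), (nat_lit 5), (nat_lit 3), (nat_lit 6), (nat_lit 10), (nat_lit 8), (nat_lit 15), (nat_lit 6), (nat_lit 2), (nat_lit 7), (nat_lit 4), (nat_lit 6), (nat_lit 2), (nat_lit 3), (nat_lit 10), (nat_lit 16)], (nat_lit 55)), ([(nat_lit 6), (nat_lit 2), (nat_lit 7), (nat_lit 4), (nat_lit 6), (nat_lit 2), (nat_lit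 3), (nat_lit 8), (nat_lit 15), (nat_lit 7), (nat_lit 4), (nat_lit 1), (nat_lit 5), (nat_lit 3), (nat_lit 6), (nat_lit 10), (nat_lit 8), (nat_lit 16)], (nat_lit 55)), ([(nat_lit 16), (nat_lit 16)], (nat_lit 55)), ([(nat_lit 16), (nat_lit 7)], (nat_lit 67))],
  [([(nat_lit 7), (nat_lit 4), (nat_lit 1), (nat_lit 5), (nat_lit 3), (nat_lit 6), (nat_lit 10), (nat_lit 8), (nat_lit 15), (nat_lit 6), (nat_lit 2), (nat_lit 7), (nat_lit 4), (nat_lit 6), (nat_lit 2), (nat_lit 3), (nat_lit 10), (nat_lit 16)], (nat_lit 55)), ([(nat_lit 7), (nat_lit 4), (nat_lit 1), (nat_lit 5), (nat_lit 3), (nat_lit 6), (nat_lit 10), (nat_lit 8), (nat_lit 16)], (nat_lit 55)), ([(nat_lit 16), (nat_lit 7), (nat_lit 4), (nat_lit 1), (nat_lit 5), (nat_lit 3), (nat_lit 8), (nat_lit 1), (nat_lit 5), (nat_lit 16), (nat_lit 16)], (nat_lit 55)), ([(nat_lit 16), (nat_lit 7), (nat_lit 4), (nat_lit 1), (nat_lit 5), (nat_lit 3), (nat_lit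 8), (nat_lit 1), (nat_lit 5), (nat_lit 16), (nat_lit 7)], (nat_lit 67))],
  [([(nat_lit 6), (nat_lit 2), (nat_lit 7), (nat_lit 4), (nat_lit 6), (nat_lit 2), (nat_lit 3), (nat_lit 10), (nat_lit 16)], (nat_lit 55)), ([(nat_lit 16), (nat_lit 16)], (nat_lit 55)), ([(nat_lit 16), (nat_lit 7), (nat_lit 9), (nat_lit 5), (nat_lit 4), (nat_lit 6), (nat_lit 2), (nat_lit 3), (nat_lit 8), (nat_lit 16), (nat_lit 7), (nat_lit 4), (nat_lit 1), (nat_lit 5), (nat_lit 3), (nat_lit 8), (nat_lit 1), (nat_lit 5), (nat_lit 16), (nat_lit 16)], (nat_lit 55)), ([(nat_lit 16), (nat_lit 7), (nat_lit 9), (nat_lit 5), (nat_lit 4), (nat_lit 6), (nat_lit 2), (nat_lit 3), (nat_lit 8), (nat_lit 16), (nat_lit 7), (nat_lit 4), (nat_lit 1), (nat_lit 5), (nat_lit 3), (nat_lit 8), (nat_lit 1), (nat_lit 5), (nat_lit 16), (nat_lit 7)], (nat_lit 67))],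
  [([(nat_lit 16), (nat_lit 16)], (nat_lit 55)), ([(nat_lit 16), (nat_lit 9), (nat_lit 4), (nat_lit 1), (nat_lit 5), (nat_lit 3), (nat_lit 8), (nat_lit 1), (nat_lit 5), (nat_lit 16), (nat_lit 16)], (nat_lit 55)), ([(nat_lit 16), (nat_lit 9), (nat_lit 4), (nat_lit 1), (nat_lit 5), (nat_lit 3), (nat_lit 8), (nat_lit 1), (nat_lit 5), (nat_lit 16), (nat_lit 7), (nat_lit 9), (nat_lit 5), (nat_lit 4), (nat_lit 6), (nat_lit 2), (nat_lit 3), (nat_lit 8), (nat_lit 16), (nat_lit 7), (nat_lit 4), (nat_lit 1), (nat_lit 5), (nat_lit 3), (nat_lit 8), (nat_lit 1), (nat_lit 5), (nat_lit 16), (nat_lit 16)], (nat_lit 55)), ([(nat_lit 16), (nat_lit 9), (nat_lit 4), (nat_lit 1), (nat_lit 5), (nat_lit 3), (nat_lit 8), (nat_lit 1), (nat_lit 5), (nat_lit 16), (nat_lit 7), (nat_lit 9), (nat_lit 5), (nat_lit 4), (nat_lit 6), (nat_lit 2), (nat_lit 3), (nat_lit 8), (nat_lit 16), (nat_lit 7), (nat_lit 4), (nat_lit 1),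 (nat_lit 5), (nat_lit 3), (nat_lit 8), (nat_lit 1), (nat_lit 5), (nat_lit 16), (nat_lit 7)], (nat_lit 67))],
  [([(nat_lit 9), (nat_lit 4), (nat_lit 1), (nat_lit 5), (nat_lit 3), (nat_lit 8), (nat_lit 15), (nat_lit 7), (nat_lit 9), (nat_lit 5), (nat_lit 4), (nat_lit 6), (nat_lit 2), (nat_lit 3), (nat_lit 8), (nat_lit 16)], (nat_lit 55)), ([(nat_lit 16)], (nat_lit 68))],
  [([(nat_lit 7), (nat_lit 9), (nat_lit 5), (nat_lit 4), (nat_lit 6), (nat_lit 2), (nat_lit 3), (nat_lit 8), (nat_lit 16)], (nat_lit 55)), ([(nat_lit 16), (nat_lit 7), (nat_lit 4), (nat_lit 6), (nat_lit 2), (nat_lit 3), (nat_lit 10), (nat_lit 16)], (nat_lit 68))],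
  [([(nat_lit 16), (nat_lit 16)], (nat_lit 55)), ([(nat_lit 16), (nat_lit 7), (nat_lit 4), (nat_lit 1), (nat_lit 5), (nat_lit 3), (nat_lit 6), (nat_lit 10), (nat_lit 8), (nat_lit 16), (nat_lit 7), (nat_lit 4), (nat_lit 6), (nat_lit 2), (nat_lit 3), (nat_lit 10), (nat_lit 16)], (nat_lit 68))],
  [([(nat_lit 16), (nat_lit 7), (nat_lit 4), (nat_lit 6), (nat_lit 2), (nat_lit 3), (nat_lit 8), (nat_lit 1), (nat_lit 5), (nat_lit 16), (nat_lit 16)], (nat_lit 55)), ([(nat_lit 16), (nat_lit 7), (nat_lit 4), (nat_lit 6), (nat_lit 2), (nat_lit 3), (nat_lit 8), (nat_lit 1), (nat_lit 5), (nat_lit 16), (nat_lit 7), (nat_lit 4), (nat_lit 1), (nat_lit 5), (nat_lit 3), (nat_lit 6), (nat_lit 10), (nat_lit 8), (nat_lit 16), (nat_lit 7), (nat_lit 4), (nat_lit 6), (nat_lit 2), (nat_lit 3), (nat_lit 10), (nat_lit 16)], (nat_lit 68))],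
  [([(nat_lit 6), (nat_lit 2), (nat_lit 12), (nat_lit 15), (nat_lit 6), (nat_lit 2), (nat_lit 12), (nat_lit 16)], (nat_lit 55)), ([(nat_lit 6), (nat_lit 2), (nat_lit 12), (nat_lit 16)], (nat_lit 55)), ([(nat_lit 16), (nat_lit 16)], (nat_lit 55)), ([(nat_lit 16), (nat_lit 11), (nat_lit 6), (nat_lit 2)], (nat_lit 73))],
  [([(nat_lit 6), (nat_lit 2), (nat_lit 12), (nat_lit 16)], (nat_lit 55)), ([(nat_lit 16), (nat_lit 16)], (nat_lit 55)), ([(nat_lit 16), (nat_lit 11), (nat_lit 1), (nat_lit 5), (nat_lit 16), (nat_lit 16)], (nat_lit 55)), ([(nat_lit 16), (nat_lit 11), (nat_lit 1), (nat_lit 5), (nat_lit 16), (nat_lit 11), (nat_lit 6), (nat_lit 2)], (nat_lit 73))],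
  [([(nat_lit 12), (nat_lit 15), (nat_lit 6), (nat_lit 2), (nat_lit 12), (nat_lit 15), (nat_lit 6), (nat_lit 2), (nat_lit 12), (nat_lit 16)], (nat_lit 55)), ([(nat_lit 12), (nat_lit 15), (nat_lit 6), (nat_lit 2), (nat_lit 12), (nat_lit 16)], (nat_lit 55)), ([(nat_lit 12), (nat_lit 16)], (nat_lit 55)), ([(nat_lit 6), (nat_lit 2)], (nat_lit 73))],
  [([(nat_lit 16)], (nat_lit 74))],
  [([(nat_lit 16), (nat_lit 12), (nat_lit 16)], (nat_lit 74))],
  [([(nat_lit 16), (nat_lit 12), (nat_lit 16), (nat_lit 12), (nat_lit 16)], (nat_lit 74))],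
  [([(nat_lit 6), (nat_lit 2), (nat_lit 11), (nat_lit 15), (nat_lit 12), (nat_lit 15), (nat_lit 6), (nat_lit 2), (nat_lit 11), (nat_lit 15), (nat_lit 12), (nat_lit 15), (nat_lit 6), (nat_lit 2), (nat_lit 11), (nat_lit 15), (nat_lit 12), (nat_lit 16)], (nat_lit 55)), ([(nat_lit 6), (nat_lit 2), (nat_lit 11), (nat_lit 15), (nat_lit 12), (nat_lit 15), (nat_lit 6), (nat_lit 2), (nat_lit 11), (nat_lit 15), (nat_lit 12), (nat_lit 16)], (nat_lit 55)), ([(nat_lit 6), (nat_lit 2), (nat_lit 11), (nat_lit 15), (nat_lit 12), (nat_lit 16)], (nat_lit 55)), ([(nat_lit 16), (nat_lit 16)], (nat_lit 55)), ([(nat_lit 16), (nat_lit 11), (nat_lit 6), (nat_lit 2)], (nat_lit 75))],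
  [([(nat_lit 12), (nat_lit 15), (nat_lit 6), (nat_lit 2), (nat_lit 11), (nat_lit 15), (nat_lit 12), (nat_lit 15), (nat_lit 6), (nat_lit 2), (nat_lit 11), (nat_lit 15), (nat_lit 12), (nat_lit 16)], (nat_lit 55)), ([(nat_lit 12), (nat_lit 15), (nat_lit 6), (nat_lit 2), (nat_lit 11), (nat_lit 15), (nat_lit 12), (nat_lit 16)], (nat_lit 55)), ([(nat_lit 12), (nat_lit 16)], (nat_lit 55)), ([(nat_lit 16), (nat_lit 12), (nat_lit 1), (nat_lit 5), (nat_lit 16), (nat_lit 16)], (nat_lit 55)), ([(nat_lit 16), (nat_lit 12), (nat_lit 1), (nat_lit 5), (nat_lit 16), (nat_lit 11), (nat_lit 6), (nat_lit 2)], (nat_lit 75))],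
  [([(nat_lit 6), (nat_lit 2), (nat_lit 11), (nat_lit 15), (nat_lit 12), (nat_lit 15), (nat_lit 6), (nat_lit 2), (nat_lit 11), (nat_lit 15), (nat_lit 12), (nat_lit 16)], (nat_lit 55)), ([(nat_lit 6), (nat_lit 2), (nat_lit 11), (nat_lit 15), (nat_lit 12), (nat_lit 16)], (nat_lit 55)), ([(nat_lit 16), (nat_lit 16)], (nat_lit 55)), ([(nat_lit 16), (nat_lit 11), (nat_lit 16), (nat_lit 12), (nat_lit 1), (nat_lit 5), (nat_lit 16), (nat_lit 16)], (nat_lit 55)), ([(nat_lit 16), (nat_lit 11), (nat_lit 16), (nat_lit 12), (nat_lit 1), (nat_lit 5), (nat_lit 16), (nat_lit 11), (nat_lit 6), (nat_lit 2)], (nat_lit 75))],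
  [([(nat_lit 12), (nat_lit 15), (nat_lit 6), (nat_lit 2), (nat_lit 11), (nat_lit 15), (nat_lit 12), (nat_lit 16)], (nat_lit 55)), ([(nat_lit 12), (nat_lit 16)], (nat_lit 55)), ([(nat_lit 16), (nat_lit 12), (nat_lit 1), (nat_lit 5), (nat_lit 16), (nat_lit 16)], (nat_lit 55)), ([(nat_lit 16), (nat_lit 12), (nat_lit 1), (nat_lit 5), (nat_lit 16), (nat_lit 11), (nat_lit 16), (nat_lit 12), (nat_lit 1), (nat_lit 5), (nat_lit 16), (nat_lit 16)], (nat_lit 55)), ([(nat_lit 16), (nat_lit 12), (nat_lit 1), (nat_lit 5), (nat_lit 16), (nat_lit 11), (nat_lit 16), (nat_lit 12), (nat_lit 1), (nat_lit 5), (nat_lit 16), (nat_lit 11), (nat_lit 6), (nat_lit 2)], (nat_lit 75))],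
  [([(nat_lit 6), (nat_lit 2), (nat_lit 11), (nat_lit 15), (nat_lit 12), (nat_lit 16)], (nat_lit 55)), ([(nat_lit 16), (nat_lit 16)], (nat_lit 55)), ([(nat_lit 16), (nat_lit 11), (nat_lit 16), (nat_lit 12), (nat_lit 1), (nat_lit 5), (nat_lit 16), (nat_lit 16)], (nat_lit 55)), ([(nat_lit 16), (nat_lit 11), (nat_lit 16), (nat_lit 12), (nat_lit 1), (nat_lit 5), (nat_lit 16), (nat_lit 11), (nat_lit 16), (nat_lit 12), (nat_lit 1), (nat_lit 5), (nat_lit 16), (nat_lit 16)], (nat_lit 55)), ([(nat_lit 16), (nat_lit 11), (nat_lit 16), (nat_lit 12), (nat_lit 1), (nat_lit 5), (nat_lit 16), (nat_lit 11), (nat_lit 16), (nat_lit 12), (nat_lit 1), (nat_lit 5), (nat_lit 16), (nat_lit 11), (nat_lit 6), (nat_lit 2)], (nat_lit 75))],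
  [([(nat_lit 12), (nat_lit 16)], (nat_lit 55)), ([(nat_lit 16), (nat_lit 12), (nat_lit 1), (nat_lit 5), (nat_lit 16), (nat_lit 16)], (nat_lit 55)), ([(nat_lit 16), (nat_lit 12), (nat_lit 1), (nat_lit 5), (nat_lit 16), (nat_lit 11), (nat_lit 16), (nat_lit 12), (nat_lit 1), (nat_lit 5), (nat_lit 16), (nat_lit 16)], (nat_lit 55)), ([(nat_lit 16), (nat_lit 12), (nat_lit 1), (nat_lit 5), (nat_lit 16), (nat_lit 11), (nat_lit 16), (nat_lit 12), (nat_lit 1), (nat_lit 5), (nat_lit 16), (nat_lit 11), (nat_lit 16), (nat_lit 12), (nat_lit 1), (nat_lit 5), (nat_lit 16), (nat_lit 16)], (nat_lit 55)), ([(nat_lit 16), (nat_lit 12), (nat_lit 1), (nat_lit 5), (nat_lit 16), (nat_lit 11), (nat_lit 16), (nat_lit 12), (nat_lit 1), (nat_lit 5), (nat_lit 16), (nat_lit 11), (nat_lit 16), (nat_lit 12), (nat_lit 1), (nat_lit 5), (nat_lit 16), (nat_lit 11), (nat_lit 6), (nat_lit 2)], (nat_lit 75))],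
  [([(nat_lit 16), (nat_lit 16)], (nat_lit 55)), ([(nat_lit 16), (nat_lit 11), (nat_lit 16), (nat_lit 12), (nat_lit 1), (nat_lit 5), (nat_lit 16), (nat_lit 16)], (nat_lit 55)), ([(nat_lit 16), (nat_lit 11), (nat_lit 16), (nat_lit 12), (nat_lit 1), (nat_lit 5), (nat_lit 16), (nat_lit 11), (nat_lit 16), (nat_lit 12), (nat_lit 1), (nat_lit 5), (nat_lit 16), (nat_lit 16)], (nat_lit 55)), ([(nat_lit 16), (nat_lit 11), (nat_lit 16), (nat_lit 12), (nat_lit 1), (nat_lit 5), (nat_lit 16), (nat_lit 11), (nat_lit 16), (nat_lit 12), (nat_lit 1), (nat_lit 5), (nat_lit 16), (nat_lit 11), (nat_lit 16), (nat_lit 12), (nat_lit 1), (nat_lit 5), (nat_lit 16), (nat_lit 16)], (nat_lit 55)), ([(nat_lit 16), (nat_lit 11), (nat_lit 16), (nat_lit 12), (nat_lit 1), (nat_lit 5), (nat_lit 16), (nat_lit 11), (nat_lit 16), (nat_lit 12), (nat_lit 1), (nat_lit 5), (nat_lit 16), (nat_lit 11), (nat_lit 16), (nat_lit 12), (nat_lit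 1), (nat_lit 5), (nat_lit 16), (nat_lit 11), (nat_lit 6), (nat_lit 2)], (nat_lit 75))],
  [([(nat_lit 1), (nat_lit 5), (nat_lit 12), (nat_lit 15), (nat_lit 6), (nat_lit 2), (nat_lit 11), (nat_lit 15), (nat_lit 12), (nat_lit 15), (nat_lit 6), (nat_lit 2), (nat_lit 11), (nat_lit 15), (nat_lit 12), (nat_lit 15), (nat_lit 6), (nat_lit 2), (nat_lit 11), (nat_lit 15), (nat_lit 12), (nat_lit 16)], (nat_lit 55)), ([(nat_lit 1), (nat_lit 5), (nat_lit 12), (nat_lit 15), (nat_lit 6), (nat_lit 2), (nat_lit 11), (nat_lit 15), (nat_lit 12), (nat_lit 15), (nat_lit 6), (nat_lit 2), (nat_lit 11), (nat_lit 15), (nat_lit 12), (nat_lit 16)], (nat_lit 55)), ([(nat_lit 1), (nat_lit 5), (nat_lit 12), (nat_lit 15), (nat_lit 6), (nat_lit 2), (nat_lit 11), (nat_lit 15), (nat_lit 12), (nat_lit 16)], (nat_lit 55)), ([(nat_lit 1), (nat_lit 5), (nat_lit 12), (nat_lit 16)], (nat_lit 55)), ([], (nat_lit 75))],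
  [([(nat_lit 6), (nat_lit 2), (nat_lit 12), (nat_lit 15), (nat_lit 11), (nat_lit 15), (nat_lit 6), (nat_lit 2), (nat_lit 12), (nat_lit 15), (nat_lit 11), (nat_lit 15), (nat_lit 6), (nat_lit 2), (nat_lit 12), (nat_lit 15), (nat_lit 11), (nat_lit 16)], (nat_lit 55)), ([(nat_lit 6), (nat_lit 2), (nat_lit 12), (nat_lit 15), (nat_lit 11), (nat_lit 15), (nat_lit 6), (nat_lit 2), (nat_lit 12), (nat_lit 15), (nat_lit 11), (nat_lit 16)], (nat_lit 55)), ([(nat_lit 6), (nat_lit 2), (nat_lit 12), (nat_lit 15), (nat_lit 11), (nat_lit 16)], (nat_lit 55)), ([(nat_lit 16), (nat_lit 16)], (nat_lit 55)), ([(nat_lit 16)], (nat_lit 76))],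
  [([(nat_lit 11), (nat_lit 15), (nat_lit 6), (nat_lit 2), (nat_lit 12), (nat_lit 15), (nat_lit 11), (nat_lit 15), (nat_lit 6), (nat_lit 2), (nat_lit 12), (nat_lit 15), (nat_lit 11), (nat_lit 16)], (nat_lit 55)), ([(nat_lit 11), (nat_lit 15), (nat_lit 6), (nat_lit 2), (nat_lit 12), (nat_lit 15), (nat_lit 11), (nat_lit 16)], (nat_lit 55)), ([(nat_lit 11), (nat_lit 16)], (nat_lit 55)), ([(nat_lit 16), (nat_lit 11), (nat_lit 1), (nat_lit 5), (nat_lit 16), (nat_lit 16)], (nat_lit 55)), ([(nat_lit 16), (nat_lit 11), (nat_lit 1), (nat_lit 5), (nat_lit 16)], (nat_lit 76))],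
  [([(nat_lit 6), (nat_lit 2), (nat_lit 12), (nat_lit 15), (nat_lit 11), (nat_lit 15), (nat_lit 6), (nat_lit 2), (nat_lit 12), (nat_lit 15), (nat_lit 11), (nat_lit 16)], (nat_lit 55)), ([(nat_lit 6), (nat_lit 2), (nat_lit 12), (nat_lit 15), (nat_lit 11), (nat_lit 16)], (nat_lit 55)), ([(nat_lit 16), (nat_lit 16)], (nat_lit 55)), ([(nat_lit 16), (nat_lit 12), (nat_lit 16), (nat_lit 11), (nat_lit 1), (nat_lit 5), (nat_lit 16), (nat_lit 16)], (nat_lit 55)), ([(nat_lit 16), (nat_lit 12), (nat_lit 16), (nat_lit 11), (nat_lit 1), (nat_lit 5), (nat_lit 16)], (nat_lit 76))],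
  [([(nat_lit 11), (nat_lit 15), (nat_lit 6), (nat_lit 2), (nat_lit 12), (nat_lit 15), (nat_lit 11), (nat_lit 16)], (nat_lit 55)), ([(nat_lit 11), (nat_lit 16)], (nat_lit 55)), ([(nat_lit 16), (nat_lit 11), (nat_lit 1), (nat_lit 5), (nat_lit 16), (nat_lit 16)], (nat_lit 55)), ([(nat_lit 16), (nat_lit 11), (nat_lit 1), (nat_lit 5), (nat_lit 16), (nat_lit 12), (nat_lit 16), (nat_lit 11), (nat_lit 1), (nat_lit 5), (nat_lit 16), (nat_lit 16)], (nat_lit 55)), ([(nat_lit 16), (nat_lit 11), (nat_lit 1), (nat_lit 5), (nat_lit 16), (nat_lit 12), (nat_lit 16), (nat_lit 11), (nat_lit 1), (nat_lit 5), (nat_lit 16)], (nat_lit 76))],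
  [([(nat_lit 6), (nat_lit 2), (nat_lit 12), (nat_lit 15), (nat_lit 11), (nat_lit 16)], (nat_lit 55)), ([(nat_lit 16), (nat_lit 16)], (nat_lit 55)), ([(nat_lit 16), (nat_lit 12), (nat_lit 16), (nat_lit 11), (nat_lit 1), (nat_lit 5), (nat_lit 16), (nat_lit 16)], (nat_lit 55)), ([(nat_lit 16), (nat_lit 12), (nat_lit 16), (nat_lit 11), (nat_lit 1), (nat_lit 5), (nat_lit 16), (nat_lit 12), (nat_lit 16), (nat_lit 11), (nat_lit 1), (nat_lit 5), (nat_lit 16), (nat_lit 16)], (nat_lit 55)), ([(nat_lit 16), (nat_lit 12), (nat_lit 16), (nat_lit 11), (nat_lit 1), (nat_lit 5), (nat_lit 16), (nat_lit 12), (nat_lit 16), (nat_lit 11), (nat_lit 1), (nat_lit 5), (nat_lit 16)], (nat_lit 76))],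
  [([(nat_lit 11), (nat_lit 16)], (nat_lit 55)), ([(nat_lit 16), (nat_lit 11), (nat_lit 1), (nat_lit 5), (nat_lit 16), (nat_lit 16)], (nat_lit 55)), ([(nat_lit 16), (nat_lit 11), (nat_lit 1), (nat_lit 5), (nat_lit 16), (nat_lit 12), (nat_lit 16), (nat_lit 11), (nat_lit 1), (nat_lit 5), (nat_lit 16), (nat_lit 16)], (nat_lit 55)), ([(nat_lit 16), (nat_lit 11), (nat_lit 1), (nat_lit 5), (nat_lit 16), (nat_lit 12), (nat_lit 16), (nat_lit 11), (nat_lit 1), (nat_lit 5), (nat_lit 16), (nat_lit 12), (nat_lit 16), (nat_lit 11), (nat_lit 1), (nat_lit 5), (nat_lit 16), (nat_lit 16)], (nat_lit 55)), ([(nat_lit 16), (nat_lit 11), (nat_lit 1), (nat_lit 5), (nat_lit 16), (nat_lit 12), (nat_lit 16), (nat_lit 11), (nat_lit 1), (nat_lit 5), (nat_lit 16), (nat_lit 12), (nat_lit 16), (nat_lit 11), (nat_lit 1), (nat_lit 5), (nat_lit 16)], (nat_lit 76))],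
  [([(nat_lit 16), (nat_lit 16)], (nat_lit 55)), ([(nat_lit 16), (nat_lit 12), (nat_lit 16), (nat_lit 11), (nat_lit 1), (nat_lit 5), (nat_lit 16), (nat_lit 16)], (nat_lit 55)), ([(nat_lit 16), (nat_lit 12), (nat_lit 16), (nat_lit 11), (nat_lit 1), (nat_lit 5), (nat_lit 16), (nat_lit 12), (nat_lit 16), (nat_lit 11), (nat_lit 1), (nat_lit 5), (nat_lit 16), (nat_lit 16)], (nat_lit 55)), ([(nat_lit 16), (nat_lit 12), (nat_lit 16), (nat_lit 11), (nat_lit 1), (nat_lit 5), (nat_lit 16), (nat_lit 12), (nat_lit 16), (nat_lit 11), (nat_lit 1), (nat_lit 5), (nat_lit 16), (nat_lit 12), (nat_lit 16), (nat_lit 11), (nat_lit 1), (nat_lit 5), (nat_lit 16), (nat_lit 16)], (nat_lit 55)), ([(nat_lit 16), (nat_lit 12), (nat_lit 16), (nat_lit 11), (nat_lit 1), (nat_lit 5), (nat_lit 16), (nat_lit 12), (nat_lit 16), (nat_lit 11), (nat_lit 1), (nat_lit 5), (nat_lit 16), (nat_lit 12), (nat_lit 16), (nat_lit 11), (nat_lit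 1), (nat_lit 5), (nat_lit 16)], (nat_lit 76))],
  [([(nat_lit 16), (nat_lit 11), (nat_lit 1), (nat_lit 5), (nat_lit 16), (nat_lit 16)], (nat_lit 55)), ([(nat_lit 16), (nat_lit 11), (nat_lit 1), (nat_lit 5), (nat_lit 16), (nat_lit 12), (nat_lit 16), (nat_lit 11), (nat_lit 1), (nat_lit 5), (nat_lit 16), (nat_lit 16)], (nat_lit 55)), ([(nat_lit 16), (nat_lit 11), (nat_lit 1), (nat_lit 5), (nat_lit 16), (nat_lit 12), (nat_lit 16), (nat_lit 11), (nat_lit 1), (nat_lit 5), (nat_lit 16), (nat_lit 12), (nat_lit 16), (nat_lit 11), (nat_lit 1), (nat_lit 5), (nat_lit 16), (nat_lit 16)], (nat_lit 55)), ([(nat_lit 16), (nat_lit 11), (nat_lit 1), (nat_lit 5), (nat_lit 16), (nat_lit 12), (nat_lit 16), (nat_lit 11), (nat_lit 1), (nat_lit 5), (nat_lit 16), (nat_lit 12), (nat_lit 16), (nat_lit 11), (nat_lit 1), (nat_lit 5), (nat_lit 16), (nat_lit 12), (nat_lit 16), (nat_lit 11), (nat_lit 1), (nat_lit 5), (nat_lit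 16), (nat_lit 16)], (nat_lit 55)), ([(nat_lit 16), (nat_lit 11), (nat_lit 1), (nat_lit 5), (nat_lit 16), (nat_lit 12), (nat_lit 16), (nat_lit 11), (nat_lit 1), (nat_lit 5), (nat_lit 16), (nat_lit 12), (nat_lit 16), (nat_lit 11), (nat_lit 1), (nat_lit 5), (nat_lit 16), (nat_lit 12), (nat_lit 16), (nat_lit 11), (nat_lit 1), (nat_lit 5), (nat_lit 16)], (nat_lit 76))],
  [([(nat_lit 16), (nat_lit 11), (nat_lit 11), (nat_lit 8)], (nat_lit 77))],
  [([(nat_lit 16), (nat_lit 11), (nat_lit 11), (nat_lit 8), (nat_lit 12), (nat_lit 12), (nat_lit 16), (nat_lit 11), (nat_lit 11), (nat_lit 8)], (nat_lit 77))],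
  [([(nat_lit 16), (nat_lit 11), (nat_lit 11), (nat_lit 8), (nat_lit 12), (nat_lit 12), (nat_lit 16), (nat_lit 11), (nat_lit 11), (nat_lit 8), (nat_lit 12), (nat_lit 12), (nat_lit 16), (nat_lit 11), (nat_lit 11), (nat_lit 8)], (nat_lit 77))],
  [([(nat_lit 16), (nat_lit 11), (nat_lit 11), (nat_lit 8), (nat_lit 12), (nat_lit 12), (nat_lit 16), (nat_lit 11), (nat_lit 11), (nat_lit 8), (nat_lit 12), (nat_lit 12), (nat_lit 16), (nat_lit 11), (nat_lit 11), (nat_lit 8), (nat_lit 12), (nat_lit 12), (nat_lit 16), (nat_lit 11), (nat_lit 11), (nat_lit 8)], (nat_lit 77))],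
  [([(nat_lit 6), (nat_lit 2), (nat_lit 11), (nat_lit 11), (nat_lit 8), (nat_lit 12), (nat_lit 12), (nat_lit 15), (nat_lit 6), (nat_lit 2), (nat_lit 11), (nat_lit 11), (nat_lit 8), (nat_lit 12), (nat_lit 12), (nat_lit 15), (nat_lit 6), (nat_lit 2), (nat_lit 11), (nat_lit 11), (nat_lit 8), (nat_lit 12), (nat_lit 12), (nat_lit 16)], (nat_lit 55)), ([(nat_lit 6), (nat_lit 2), (nat_lit 11), (nat_lit 11), (nat_lit 8), (nat_lit 12), (nat_lit 12), (nat_lit 15), (nat_lit 6), (nat_lit 2), (nat_lit 11), (nat_lit 11), (nat_lit 8), (nat_lit 12), (nat_lit 12), (nat_lit 16)], (nat_lit 55)), ([(nat_lit 6), (nat_lit 2), (nat_lit 11), (nat_lit 11), (nat_lit 8), (nat_lit 12), (nat_lit 12), (nat_lit 16)], (nat_lit 55)), ([(nat_lit 16), (nat_lit 16)], (nat_lit 55)), ([(nat_lit 16), (nat_lit 10), (nat_lit 8), (nat_lit 6), (nat_lit 7), (nat_lit 9), (nat_lit 11), (nat_lit 11), (nat_lit 11), (nat_lit 10), (nat_lit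 8), (nat_lit 6), (nat_lit 7), (nat_lit 9), (nat_lit 12), (nat_lit 8), (nat_lit 6), (nat_lit 7), (nat_lit 6), (nat_lit 2)], (nat_lit 78))],
  [([(nat_lit 6), (nat_lit 2), (nat_lit 11), (nat_lit 11), (nat_lit 8), (nat_lit 12), (nat_lit 12), (nat_lit 15), (nat_lit 6), (nat_lit 2), (nat_lit 11), (nat_lit 11), (nat_lit 8), (nat_lit 12), (nat_lit 12), (nat_lit 16)], (nat_lit 55)), ([(nat_lit 6), (nat_lit 2), (nat_lit 11), (nat_lit 11), (nat_lit 8), (nat_lit 12), (nat_lit 12), (nat_lit 16)], (nat_lit 55)), ([(nat_lit 16), (nat_lit 16)], (nat_lit 55)), ([(nat_lit 16), (nat_lit 11), (nat_lit 11), (nat_lit 7), (nat_lit 12), (nat_lit 12), (nat_lit 1), (nat_lit 5), (nat_lit 16), (nat_lit 16)], (nat_lit 55)), ([(nat_lit 16), (nat_lit 11), (nat_lit 11), (nat_lit 7), (nat_lit 12), (nat_lit 12), (nat_lit 1), (nat_lit 5), (nat_lit 16), (nat_lit 10), (nat_lit 8), (nat_lit 6), (nat_lit 7), (nat_lit 9), (nat_lit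 11), (nat_lit 11), (nat_lit 11), (nat_lit 10), (nat_lit 8), (nat_lit 6), (nat_lit 7), (nat_lit 9), (nat_lit 12), (nat_lit 8), (nat_lit 6), (nat_lit 7), (nat_lit 6), (nat_lit 2)], (nat_lit 78))],
  [([(nat_lit 6), (nat_lit 2), (nat_lit 11), (nat_lit 11), (nat_lit 8), (nat_lit 12), (nat_lit 12), (nat_lit 16)], (nat_lit 55)), ([(nat_lit 16), (nat_lit 16)], (nat_lit 55)), ([(nat_lit 16), (nat_lit 11), (nat_lit 11), (nat_lit 7), (nat_lit 12), (nat_lit 12), (nat_lit 1), (nat_lit 5), (nat_lit 16), (nat_lit 16)], (nat_lit 55)), ([(nat_lit 16), (nat_lit 11), (nat_lit 11), (nat_lit 7), (nat_lit 12), (nat_lit 12), (nat_lit 1), (nat_lit 5), (nat_lit 16), (nat_lit 11), (nat_lit 11), (nat_lit 7), (nat_lit 12), (nat_lit 12), (nat_lit 1), (nat_lit 5), (nat_lit 16), (nat_lit 16)], (nat_lit 55)), ([(nat_lit 16), (nat_lit 11), (nat_lit 11), (nat_lit 7), (nat_lit 12), (nat_lit 12), (nat_lit 1), (nat_lit 5), (nat_lit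 16), (nat_lit 11), (nat_lit 11), (nat_lit 7), (nat_lit 12), (nat_lit 12), (nat_lit 1), (nat_lit 5), (nat_lit 16), (nat_lit 10), (nat_lit 8), (nat_lit 6), (nat_lit 7), (nat_lit 9), (nat_lit 11), (nat_lit 11), (nat_lit 11), (nat_lit 10), (nat_lit 8), (nat_lit 6), (nat_lit 7), (nat_lit 9), (nat_lit 12), (nat_lit 8), (nat_lit 6), (nat_lit 7), (nat_lit 6), (nat_lit 2)], (nat_lit 78))],
  [([(nat_lit 16), (nat_lit 16)], (nat_lit 55)), ([(nat_lit 16), (nat_lit 11), (nat_lit 11), (nat_lit 7), (nat_lit 12), (nat_lit 12), (nat_lit 1), (nat_lit 5), (nat_lit 16), (nat_lit 16)], (nat_lit 55)), ([(nat_lit 16), (nat_lit 11), (nat_lit 11), (nat_lit 7), (nat_lit 12), (nat_lit 12), (nat_lit 1), (nat_lit 5), (nat_lit 16), (nat_lit 11), (nat_lit 11), (nat_lit 7), (nat_lit 12), (nat_lit 12), (nat_lit 1), (nat_lit 5), (nat_lit 16), (nat_lit 16)], (nat_lit 55)), ([(nat_lit 16), (nat_lit 11), (nat_lit 11), (nat_lit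 7), (nat_lit 12), (nat_lit 12), (nat_lit 1), (nat_lit 5), (nat_lit 16), (nat_lit 11), (nat_lit 11), (nat_lit 7), (nat_lit 12), (nat_lit 12), (nat_lit 1), (nat_lit 5), (nat_lit 16), (nat_lit 11), (nat_lit 11), (nat_lit 7), (nat_lit 12), (nat_lit 12), (nat_lit 1), (nat_lit 5), (nat_lit 16), (nat_lit 16)], (nat_lit 55)), ([(nat_lit 16), (nat_lit 11), (nat_lit 11), (nat_lit 7), (nat_lit 12), (nat_lit 12), (nat_lit 1), (nat_lit 5), (nat_lit 16), (nat_lit 11), (nat_lit 11), (nat_lit 7), (nat_lit 12), (nat_lit 12), (nat_lit 1), (nat_lit 5), (nat_lit 16), (nat_lit 11), (nat_lit 11), (nat_lit 7), (nat_lit 12), (nat_lit 12), (nat_lit 1), (nat_lit 5), (nat_lit 16), (nat_lit 10), (nat_lit 8), (nat_lit 6), (nat_lit 7), (nat_lit 9), (nat_lit 11), (nat_lit 11), (nat_lit 11), (nat_lit 10), (nat_lit 8), (nat_lit 6), (nat_lit 7), (nat_lit 9), (nat_lit 12), (nat_lit 8), (nat_lit 6), (nat_lit 7), (nat_lit 6),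 (nat_lit 2)], (nat_lit 78))]]
noncomputable def xW : List (List (List Nat)) := [[[(nat_lit 5), (nat_lit 1), (nat_lit 7)],
  [(nat_lit 7), (nat_lit 9)],
  [(nat_lit 5), (nat_lit 1), (nat_lit 7)],
  [(nat_lit 7), (nat_lit 9)]],
 [[(nat_lit 7), (nat_lit 9)],
  [(nat_lit 5), (nat_lit 1), (nat_lit 7)],
  [(nat_lit 7), (nat_lit 9)],
  [(nat_lit 5), (nat_lit 1), (nat_lit 7)]],
 [[(nat_lit 5), (nat_lit 1), (nat_lit 7)],
  [(nat_lit 9), (nat_lit 7)],
  [(nat_lit 5), (nat_lit 1), (nat_lit 7)],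
  [(nat_lit 9), (nat_lit 7)]],
 [[(nat_lit 9), (nat_lit 7)],
  [(nat_lit 5), (nat_lit 1), (nat_lit 7)],
  [(nat_lit 9), (nat_lit 7)],
  [(nat_lit 5), (nat_lit 1), (nat_lit 7)]],
 [[(nat_lit 5), (nat_lit 1), (nat_lit 12)],
  [(nat_lit 5), (nat_lit 1), (nat_lit 12)],
  [(nat_lit 12)]],
 [[(nat_lit 5), (nat_lit 1), (nat_lit 12)],
  [(nat_lit 12)],
  [(nat_lit 5), (nat_lit 1), (nat_lit 12)]],
 [[(nat_lit 12)],
  [(nat_lit 5), (nat_lit 1), (nat_lit 12)],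
  [(nat_lit 5), (nat_lit 1), (nat_lit 12)]],
 [[(nat_lit 11)],
  [(nat_lit 11)],
  [(nat_lit 11), (nat_lit 5), (nat_lit 1)]],
 [[(nat_lit 11)],
  [(nat_lit 11), (nat_lit 5), (nat_lit 1)],
  [(nat_lit 11)]],
 [[(nat_lit 11), (nat_lit 5), (nat_lit 1)],
  [(nat_lit 11)],
  [(nat_lit 11)]],
 [[(nat_lit 5), (nat_lit 1), (nat_lit 11)],
  [(nat_lit 12)],
  [(nat_lit 5), (nat_lit 1), (nat_lit 11)],
  [(nat_lit 12)],
  [(nat_lit 5), (nat_lit 1), (nat_lit 11)],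
  [(nat_lit 12)],
  [(nat_lit 5), (nat_lit 1), (nat_lit 11)],
  [(nat_lit 1), (nat_lit 5), (nat_lit 12)]],
 [[(nat_lit 12)],
  [(nat_lit 5), (nat_lit 1), (nat_lit 11)],
  [(nat_lit 12)],
  [(nat_lit 5), (nat_lit 1), (nat_lit 11)],
  [(nat_lit 12)],
  [(nat_lit 5), (nat_lit 1), (nat_lit 11)],
  [(nat_lit 1), (nat_lit 5), (nat_lit 12)],
  [(nat_lit 5), (nat_lit 1), (nat_lit 11)]],
 [[(nat_lit 5), (nat_lit 1), (nat_lit 11)],
  [(nat_lit 12)],
  [(nat_lit 5), (nat_lit 1), (nat_lit 11)],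
  [(nat_lit 12)],
  [(nat_lit 5), (nat_lit 1), (nat_lit 11)],
  [(nat_lit 1), (nat_lit 5), (nat_lit 12)],
  [(nat_lit 5), (nat_lit 1), (nat_lit 11)],
  [(nat_lit 12)]],
 [[(nat_lit 12)],
  [(nat_lit 5), (nat_lit 1), (nat_lit 11)],
  [(nat_lit 12)],
  [(nat_lit 5), (nat_lit 1), (nat_lit 11)],
  [(nat_lit 1), (nat_lit 5), (nat_lit 12)],
  [(nat_lit 5), (nat_lit 1), (nat_lit 11)],
  [(nat_lit 12)],
  [(nat_lit 5), (nat_lit 1), (nat_lit 11)]],
 [[(nat_lit 5), (nat_lit 1), (nat_lit 11)],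
  [(nat_lit 12)],
  [(nat_lit 5), (nat_lit 1), (nat_lit 11)],
  [(nat_lit 1), (nat_lit 5), (nat_lit 12)],
  [(nat_lit 5), (nat_lit 1), (nat_lit 11)],
  [(nat_lit 12)],
  [(nat_lit 5), (nat_lit 1), (nat_lit 11)],
  [(nat_lit 12)]],
 [[(nat_lit 12)],
  [(nat_lit 5), (nat_lit 1), (nat_lit 11)],
  [(nat_lit 1), (nat_lit 5), (nat_lit 12)],
  [(nat_lit 5), (nat_lit 1), (nat_lit 11)],
  [(nat_lit 12)],
  [(nat_lit 5), (nat_lit 1), (nat_lit 11)],
  [(nat_lit 12)],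
  [(nat_lit 5), (nat_lit 1), (nat_lit 11)]],
 [[(nat_lit 5), (nat_lit 1), (nat_lit 11)],
  [(nat_lit 1), (nat_lit 5), (nat_lit 12)],
  [(nat_lit 5), (nat_lit 1), (nat_lit 11)],
  [(nat_lit 12)],
  [(nat_lit 5), (nat_lit 1), (nat_lit 11)],
  [(nat_lit 12)],
  [(nat_lit 5), (nat_lit 1), (nat_lit 11)],
  [(nat_lit 12)]],
 [[(nat_lit 1), (nat_lit 5), (nat_lit 12)],
  [(nat_lit 5), (nat_lit 1), (nat_lit 11)],
  [(nat_lit 12)],
  [(nat_lit 5), (nat_lit 1), (nat_lit 11)],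
  [(nat_lit 12)],
  [(nat_lit 5), (nat_lit 1), (nat_lit 11)],
  [(nat_lit 12)],
  [(nat_lit 5), (nat_lit 1), (nat_lit 11)]],
 [[(nat_lit 5), (nat_lit 1), (nat_lit 12)],
  [(nat_lit 11)],
  [(nat_lit 5), (nat_lit 1), (nat_lit 12)],
  [(nat_lit 11)],
  [(nat_lit 5), (nat_lit 1), (nat_lit 12)],
  [(nat_lit 11)],
  [(nat_lit 5), (nat_lit 1), (nat_lit 12)],
  [(nat_lit 11), (nat_lit 5), (nat_lit 1)]],
 [[(nat_lit 11)],
  [(nat_lit 5), (nat_lit 1), (nat_lit 12)],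
  [(nat_lit 11)],
  [(nat_lit 5), (nat_lit 1), (nat_lit 12)],
  [(nat_lit 11)],
  [(nat_lit 5), (nat_lit 1), (nat_lit 12)],
  [(nat_lit 11), (nat_lit 5), (nat_lit 1)],
  [(nat_lit 5), (nat_lit 1), (nat_lit 12)]],
 [[(nat_lit 5), (nat_lit 1), (nat_lit 12)],
  [(nat_lit 11)],
  [(nat_lit 5), (nat_lit 1), (nat_lit 12)],
  [(nat_lit 11)],
  [(nat_lit 5), (nat_lit 1), (nat_lit 12)],
  [(nat_lit 11), (nat_lit 5), (nat_lit 1)],
  [(nat_lit 5), (nat_lit 1), (nat_lit 12)],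
  [(nat_lit 11)]],
 [[(nat_lit 11)],
  [(nat_lit 5), (nat_lit 1), (nat_lit 12)],
  [(nat_lit 11)],
  [(nat_lit 5), (nat_lit 1), (nat_lit 12)],
  [(nat_lit 11), (nat_lit 5), (nat_lit 1)],
  [(nat_lit 5), (nat_lit 1), (nat_lit 12)],
  [(nat_lit 11)],
  [(nat_lit 5), (nat_lit 1), (nat_lit 12)]],
 [[(nat_lit 5), (nat_lit 1), (nat_lit 12)],
  [(nat_lit 11)],
  [(nat_lit 5), (nat_lit 1), (nat_lit 12)],
  [(nat_lit 11), (nat_lit 5), (nat_lit 1)],
  [(nat_lit 5), (nat_lit 1), (nat_lit 12)],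
  [(nat_lit 11)],
  [(nat_lit 5), (nat_lit 1), (nat_lit 12)],
  [(nat_lit 11)]],
 [[(nat_lit 11)],
  [(nat_lit 5), (nat_lit 1), (nat_lit 12)],
  [(nat_lit 11), (nat_lit 5), (nat_lit 1)],
  [(nat_lit 5), (nat_lit 1), (nat_lit 12)],
  [(nat_lit 11)],
  [(nat_lit 5), (nat_lit 1), (nat_lit 12)],
  [(nat_lit 11)],
  [(nat_lit 5), (nat_lit 1), (nat_lit 12)]],
 [[(nat_lit 5), (nat_lit 1), (nat_lit 12)],
  [(nat_lit 11), (nat_lit 5), (nat_lit 1)],
  [(nat_lit 5), (nat_lit 1), (nat_lit 12)],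
  [(nat_lit 11)],
  [(nat_lit 5), (nat_lit 1), (nat_lit 12)],
  [(nat_lit 11)],
  [(nat_lit 5), (nat_lit 1), (nat_lit 12)],
  [(nat_lit 11)]],
 [[(nat_lit 11), (nat_lit 5), (nat_lit 1)],
  [(nat_lit 5), (nat_lit 1), (nat_lit 12)],
  [(nat_lit 11)],
  [(nat_lit 5), (nat_lit 1), (nat_lit 12)],
  [(nat_lit 11)],
  [(nat_lit 5), (nat_lit 1), (nat_lit 12)],
  [(nat_lit 11)],
  [(nat_lit 5), (nat_lit 1), (nat_lit 12)]],
 [[(nat_lit 11), (nat_lit 11), (nat_lit 7), (nat_lit 12), (nat_lit 12)],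
  [(nat_lit 11), (nat_lit 11), (nat_lit 7), (nat_lit 12), (nat_lit 12)],
  [(nat_lit 11), (nat_lit 11), (nat_lit 7), (nat_lit 12), (nat_lit 12)],
  [(nat_lit 9), (nat_lit 7), (nat_lit 5), (nat_lit 7), (nat_lit 9), (nat_lit 11), (nat_lit 11), (nat_lit 11), (nat_lit 9), (nat_lit 7), (nat_lit 5), (nat_lit 7), (nat_lit 9), (nat_lit 12), (nat_lit 7), (nat_lit 5), (nat_lit 7), (nat_lit 5), (nat_lit 1), (nat_lit 7), (nat_lit 12), (nat_lit 12)]],
 [[(nat_lit 11), (nat_lit 11), (nat_lit 7), (nat_lit 12), (nat_lit 12)],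
  [(nat_lit 11), (nat_lit 11), (nat_lit 7), (nat_lit 12), (nat_lit 12)],
  [(nat_lit 9), (nat_lit 7), (nat_lit 5), (nat_lit 7), (nat_lit 9), (nat_lit 11), (nat_lit 11), (nat_lit 11), (nat_lit 9), (nat_lit 7), (nat_lit 5), (nat_lit 7), (nat_lit 9), (nat_lit 12), (nat_lit 7), (nat_lit 5), (nat_lit 7), (nat_lit 5), (nat_lit 1), (nat_lit 7), (nat_lit 12), (nat_lit 12)],
  [(nat_lit 11), (nat_lit 11), (nat_lit 7), (nat_lit 12), (nat_lit 12)]],
 [[(nat_lit 11), (nat_lit 11), (nat_lit 7), (nat_lit 12), (nat_lit 12)],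
  [(nat_lit 9), (nat_lit 7), (nat_lit 5), (nat_lit 7), (nat_lit 9), (nat_lit 11), (nat_lit 11), (nat_lit 11), (nat_lit 9), (nat_lit 7), (nat_lit 5), (nat_lit 7), (nat_lit 9), (nat_lit 12), (nat_lit 7), (nat_lit 5), (nat_lit 7), (nat_lit 5), (nat_lit 1), (nat_lit 7), (nat_lit 12), (nat_lit 12)],
  [(nat_lit 11), (nat_lit 11), (nat_lit 7), (nat_lit 12), (nat_lit 12)],
  [(nat_lit 11), (nat_lit 11), (nat_lit 7), (nat_lit 12), (nat_lit 12)]],
 [[(nat_lit 9), (nat_lit 7), (nat_lit 5), (nat_lit 7), (nat_lit 9), (nat_lit 11), (nat_lit 11), (nat_lit 11), (nat_lit 9), (nat_lit 7), (nat_lit 5), (nat_lit 7), (nat_lit 9), (nat_lit 12), (nat_lit 7), (nat_lit 5), (nat_lit 7), (nat_lit 5), (nat_lit 1), (nat_lit 7), (nat_lit 12), (nat_lit 12)],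
  [(nat_lit 11), (nat_lit 11), (nat_lit 7), (nat_lit 12), (nat_lit 12)],
  [(nat_lit 11), (nat_lit 11), (nat_lit 7), (nat_lit 12), (nat_lit 12)],
  [(nat_lit 11), (nat_lit 11), (nat_lit 7), (nat_lit 12), (nat_lit 12)]],
 [[(nat_lit 5), (nat_lit 1), (nat_lit 11), (nat_lit 11), (nat_lit 7), (nat_lit 12), (nat_lit 12)],
  [(nat_lit 5), (nat_lit 1), (nat_lit 11), (nat_lit 11), (nat_lit 7), (nat_lit 12), (nat_lit 12)],
  [(nat_lit 5), (nat_lit 1), (nat_lit 11), (nat_lit 11), (nat_lit 7), (nat_lit 12), (nat_lit 12)],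
  [(nat_lit 5), (nat_lit 1), (nat_lit 11), (nat_lit 11), (nat_lit 7), (nat_lit 1), (nat_lit 5), (nat_lit 7), (nat_lit 5), (nat_lit 7), (nat_lit 11), (nat_lit 9), (nat_lit 7), (nat_lit 5), (nat_lit 7), (nat_lit 9), (nat_lit 12), (nat_lit 12), (nat_lit 12), (nat_lit 9), (nat_lit 7), (nat_lit 5), (nat_lit 7), (nat_lit 9)]],
 [[(nat_lit 5), (nat_lit 1), (nat_lit 11), (nat_lit 11), (nat_lit 7), (nat_lit 12), (nat_lit 12)],
  [(nat_lit 5), (nat_lit 1), (nat_lit 11), (nat_lit 11), (nat_lit 7), (nat_lit 12), (nat_lit 12)],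
  [(nat_lit 5), (nat_lit 1), (nat_lit 11), (nat_lit 11), (nat_lit 7), (nat_lit 1), (nat_lit 5), (nat_lit 7), (nat_lit 5), (nat_lit 7), (nat_lit 11), (nat_lit 9), (nat_lit 7), (nat_lit 5), (nat_lit 7), (nat_lit 9), (nat_lit 12), (nat_lit 12), (nat_lit 12), (nat_lit 9), (nat_lit 7), (nat_lit 5), (nat_lit 7), (nat_lit 9)],
  [(nat_lit 5), (nat_lit 1), (nat_lit 11), (nat_lit 11), (nat_lit 7), (nat_lit 12), (nat_lit 12)]],
 [[(nat_lit 5), (nat_lit 1), (nat_lit 11), (nat_lit 11), (nat_lit 7), (nat_lit 12), (nat_lit 12)],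
  [(nat_lit 5), (nat_lit 1), (nat_lit 11), (nat_lit 11), (nat_lit 7), (nat_lit 1), (nat_lit 5), (nat_lit 7), (nat_lit 5), (nat_lit 7), (nat_lit 11), (nat_lit 9), (nat_lit 7), (nat_lit 5), (nat_lit 7), (nat_lit 9), (nat_lit 12), (nat_lit 12), (nat_lit 12), (nat_lit 9), (nat_lit 7), (nat_lit 5), (nat_lit 7), (nat_lit 9)],
  [(nat_lit 5), (nat_lit 1), (nat_lit 11), (nat_lit 11), (nat_lit 7), (nat_lit 12), (nat_lit 12)],
  [(nat_lit 5), (nat_lit 1), (nat_lit 11), (nat_lit 11), (nat_lit 7), (nat_lit 12), (nat_lit 12)]],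
 [[(nat_lit 5), (nat_lit 1), (nat_lit 11), (nat_lit 11), (nat_lit 7), (nat_lit 1), (nat_lit 5), (nat_lit 7), (nat_lit 5), (nat_lit 7), (nat_lit 11), (nat_lit 9), (nat_lit 7), (nat_lit 5), (nat_lit 7), (nat_lit 9), (nat_lit 12), (nat_lit 12), (nat_lit 12), (nat_lit 9), (nat_lit 7), (nat_lit 5), (nat_lit 7), (nat_lit 9)],
  [(nat_lit 5), (nat_lit 1), (nat_lit 11), (nat_lit 11), (nat_lit 7), (nat_lit 12), (nat_lit 12)],
  [(nat_lit 5), (nat_lit 1), (nat_lit 11), (nat_lit 11), (nat_lit 7), (nat_lit 12), (nat_lit 12)],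
  [(nat_lit 5), (nat_lit 1), (nat_lit 11), (nat_lit 11), (nat_lit 7), (nat_lit 12), (nat_lit 12)]]]
noncomputable def xQ : List (List (List Nat × Nat)) := [[([(nat_lit 6), (nat_lit 2), (nat_lit 7), (nat_lit 15), (nat_lit 7), (nat_lit 9), (nat_lit 16)], (nat_lit 55)), ([(nat_lit 16), (nat_lit 16)], (nat_lit 55)), ([(nat_lit 16), (nat_lit 10), (nat_lit 8)], (nat_lit 63))],
  [([(nat_lit 7), (nat_lit 9), (nat_lit 15), (nat_lit 6), (nat_lit 2), (nat_lit 7), (nat_lit 15), (nat_lit 7), (nat_lit 9), (nat_lit 16)], (nat_lit 55)), ([(nat_lit 7), (nat_lit 9), (nat_lit 16)], (nat_lit 55)), ([], (nat_lit 63))],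
  [([(nat_lit 6), (nat_lit 2), (nat_lit 8), (nat_lit 15), (nat_lit 10), (nat_lit 8), (nat_lit 16)], (nat_lit 55)), ([(nat_lit 16), (nat_lit 16)], (nat_lit 55)), ([(nat_lit 16)], (nat_lit 64))],
  [([(nat_lit 10), (nat_lit 8), (nat_lit 16)], (nat_lit 55)), ([(nat_lit 16), (nat_lit 7), (nat_lit 1), (nat_lit 5), (nat_lit 16), (nat_lit 16)], (nat_lit 55)), ([(nat_lit 16), (nat_lit 7), (nat_lit 1), (nat_lit 5), (nat_lit 16)], (nat_lit 64))],
  [([(nat_lit 6), (nat_lit 2), (nat_lit 12), (nat_lit 15), (nat_lit 6), (nat_lit 2), (nat_lit 12), (nat_lit 16)], (nat_lit 55)), ([(nat_lit 6), (nat_lit 2), (nat_lit 12), (nat_lit 16)], (nat_lit 55)), ([(nat_lit 16), (nat_lit 16)], (nat_lit 55)), ([(nat_lit 16), (nat_lit 11), (nat_lit 6), (nat_lit 2)], (nat_lit 73))],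
  [([(nat_lit 6), (nat_lit 2), (nat_lit 12), (nat_lit 16)], (nat_lit 55)), ([(nat_lit 16), (nat_lit 16)], (nat_lit 55)), ([(nat_lit 16), (nat_lit 11), (nat_lit 1), (nat_lit 5), (nat_lit 16), (nat_lit 16)], (nat_lit 55)), ([(nat_lit 16), (nat_lit 11), (nat_lit 1), (nat_lit 5), (nat_lit 16), (nat_lit 11), (nat_lit 6), (nat_lit 2)], (nat_lit 73))],
  [([(nat_lit 12), (nat_lit 15), (nat_lit 6), (nat_lit 2), (nat_lit 12), (nat_lit 15), (nat_lit 6), (nat_lit 2), (nat_lit 12), (nat_lit 16)], (nat_lit 55)), ([(nat_lit 12), (nat_lit 15), (nat_lit 6), (nat_lit 2), (nat_lit 12), (nat_lit 16)], (nat_lit 55)), ([(nat_lit 12), (nat_lit 16)], (nat_lit 55)), ([(nat_lit 6), (nat_lit 2)], (nat_lit 73))],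
  [([(nat_lit 16)], (nat_lit 74))],
  [([(nat_lit 16), (nat_lit 12), (nat_lit 16)], (nat_lit 74))],
  [([(nat_lit 16), (nat_lit 12), (nat_lit 16), (nat_lit 12), (nat_lit 16)], (nat_lit 74))],
  [([(nat_lit 6), (nat_lit 2), (nat_lit 11), (nat_lit 15), (nat_lit 12), (nat_lit 15), (nat_lit 6), (nat_lit 2), (nat_lit 11), (nat_lit 15), (nat_lit 12), (nat_lit 15), (nat_lit 6), (nat_lit 2), (nat_lit 11), (nat_lit 15), (nat_lit 12), (nat_lit 16)], (nat_lit 55)), ([(nat_lit 6), (nat_lit 2), (nat_lit 11), (nat_lit 15), (nat_lit 12), (nat_lit 15), (nat_lit 6), (nat_lit 2), (nat_lit 11), (nat_lit 15), (nat_lit 12), (nat_lit 16)], (nat_lit 55)), ([(nat_lit 6), (nat_lit 2), (nat_lit 11), (nat_lit 15), (nat_lit 12), (nat_lit 16)], (nat_lit 55)), ([(nat_lit 16), (nat_lit 16)], (nat_lit 55)), ([(nat_lit 16), (nat_lit 11), (nat_lit 6), (nat_lit 2)], (nat_lit 75))],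
  [([(nat_lit 12), (nat_lit 15), (nat_lit 6), (nat_lit 2), (nat_lit 11), (nat_lit 15), (nat_lit 12), (nat_lit 15), (nat_lit 6), (nat_lit 2), (nat_lit 11), (nat_lit 15), (nat_lit 12), (nat_lit 16)], (nat_lit 55)), ([(nat_lit 12), (nat_lit 15), (nat_lit 6), (nat_lit 2), (nat_lit 11), (nat_lit 15), (nat_lit 12), (nat_lit 16)], (nat_lit 55)), ([(nat_lit 12), (nat_lit 16)], (nat_lit 55)), ([(nat_lit 16), (nat_lit 12), (nat_lit 1), (nat_lit 5), (nat_lit 16), (nat_lit 16)], (nat_lit 55)), ([(nat_lit 16), (nat_lit 12), (nat_lit 1), (nat_lit 5), (nat_lit 16), (nat_lit 11), (nat_lit 6), (nat_lit 2)], (nat_lit 75))],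
  [([(nat_lit 6), (nat_lit 2), (nat_lit 11), (nat_lit 15), (nat_lit 12), (nat_lit 15), (nat_lit 6), (nat_lit 2), (nat_lit 11), (nat_lit 15), (nat_lit 12), (nat_lit 16)], (nat_lit 55)), ([(nat_lit 6), (nat_lit 2), (nat_lit 11), (nat_lit 15), (nat_lit 12), (nat_lit 16)], (nat_lit 55)), ([(nat_lit 16), (nat_lit 16)], (nat_lit 55)), ([(nat_lit 16), (nat_lit 11), (nat_lit 16), (nat_lit 12), (nat_lit 1), (nat_lit 5), (nat_lit 16), (nat_lit 16)], (nat_lit 55)), ([(nat_lit 16), (nat_lit 11), (nat_lit 16), (nat_lit 12), (nat_lit 1), (nat_lit 5), (nat_lit 16), (nat_lit 11), (nat_lit 6), (nat_lit 2)], (nat_lit 75))],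
  [([(nat_lit 12), (nat_lit 15), (nat_lit 6), (nat_lit 2), (nat_lit 11), (nat_lit 15), (nat_lit 12), (nat_lit 16)], (nat_lit 55)), ([(nat_lit 12), (nat_lit 16)], (nat_lit 55)), ([(nat_lit 16), (nat_lit 12), (nat_lit 1), (nat_lit 5), (nat_lit 16), (nat_lit 16)], (nat_lit 55)), ([(nat_lit 16), (nat_lit 12), (nat_lit 1), (nat_lit 5), (nat_lit 16), (nat_lit 11), (nat_lit 16), (nat_lit 12), (nat_lit 1), (nat_lit 5), (nat_lit 16), (nat_lit 16)], (nat_lit 55)), ([(nat_lit 16), (nat_lit 12), (nat_lit 1), (nat_lit 5), (nat_lit 16), (nat_lit 11), (nat_lit 16), (nat_lit 12), (nat_lit 1), (nat_lit 5), (nat_lit 16), (nat_lit 11), (nat_lit 6), (nat_lit 2)], (nat_lit 75))],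
  [([(nat_lit 6), (nat_lit 2), (nat_lit 11), (nat_lit 15), (nat_lit 12), (nat_lit 16)], (nat_lit 55)), ([(nat_lit 16), (nat_lit 16)], (nat_lit 55)), ([(nat_lit 16), (nat_lit 11), (nat_lit 16), (nat_lit 12), (nat_lit 1), (nat_lit 5), (nat_lit 16), (nat_lit 16)], (nat_lit 55)), ([(nat_lit 16), (nat_lit 11), (nat_lit 16), (nat_lit 12), (nat_lit 1), (nat_lit 5), (nat_lit 16), (nat_lit 11), (nat_lit 16), (nat_lit 12), (nat_lit 1), (nat_lit 5), (nat_lit 16), (nat_lit 16)], (nat_lit 55)), ([(nat_lit 16), (nat_lit 11), (nat_lit 16), (nat_lit 12), (nat_lit 1), (nat_lit 5), (nat_lit 16), (nat_lit 11), (nat_lit 16), (nat_lit 12), (nat_lit 1), (nat_lit 5), (nat_lit 16), (nat_lit 11), (nat_lit 6), (nat_lit 2)], (nat_lit 75))],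
  [([(nat_lit 12), (nat_lit 16)], (nat_lit 55)), ([(nat_lit 16), (nat_lit 12), (nat_lit 1), (nat_lit 5), (nat_lit 16), (nat_lit 16)], (nat_lit 55)), ([(nat_lit 16), (nat_lit 12), (nat_lit 1), (nat_lit 5), (nat_lit 16), (nat_lit 11), (nat_lit 16), (nat_lit 12), (nat_lit 1), (nat_lit 5), (nat_lit 16), (nat_lit 16)], (nat_lit 55)), ([(nat_lit 16), (nat_lit 12), (nat_lit 1), (nat_lit 5), (nat_lit 16), (nat_lit 11), (nat_lit 16), (nat_lit 12), (nat_lit 1), (nat_lit 5), (nat_lit 16), (nat_lit 11), (nat_lit 16), (nat_lit 12), (nat_lit 1), (nat_lit 5), (nat_lit 16), (nat_lit 16)], (nat_lit 55)), ([(nat_lit 16), (nat_lit 12), (nat_lit 1), (nat_lit 5), (nat_lit 16), (nat_lit 11), (nat_lit 16), (nat_lit 12), (nat_lit 1), (nat_lit 5), (nat_lit 16), (nat_lit 11), (nat_lit 16), (nat_lit 12), (nat_lit 1), (nat_lit 5), (nat_lit 16), (nat_lit 11), (nat_lit 6), (nat_lit 2)], (nat_lit 75))],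
  [([(nat_lit 16), (nat_lit 16)], (nat_lit 55)), ([(nat_lit 16), (nat_lit 11), (nat_lit 16), (nat_lit 12), (nat_lit 1), (nat_lit 5), (nat_lit 16), (nat_lit 16)], (nat_lit 55)), ([(nat_lit 16), (nat_lit 11), (nat_lit 16), (nat_lit 12), (nat_lit 1), (nat_lit 5), (nat_lit 16), (nat_lit 11), (nat_lit 16), (nat_lit 12), (nat_lit 1), (nat_lit 5), (nat_lit 16), (nat_lit 16)], (nat_lit 55)), ([(nat_lit 16), (nat_lit 11), (nat_lit 16), (nat_lit 12), (nat_lit 1), (nat_lit 5), (nat_lit 16), (nat_lit 11), (nat_lit 16), (nat_lit 12), (nat_lit 1), (nat_lit 5), (nat_lit 16), (nat_lit 11), (nat_lit 16), (nat_lit 12), (nat_lit 1), (nat_lit 5), (nat_lit 16), (nat_lit 16)], (nat_lit 55)), ([(nat_lit 16), (nat_lit 11), (nat_lit 16), (nat_lit 12), (nat_lit 1), (nat_lit 5), (nat_lit 16), (nat_lit 11), (nat_lit 16), (nat_lit 12), (nat_lit 1), (nat_lit 5), (nat_lit 16), (nat_lit 11), (nat_lit 16), (nat_lit 12), (nat_lit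 1), (nat_lit 5), (nat_lit 16), (nat_lit 11), (nat_lit 6), (nat_lit 2)], (nat_lit 75))],
  [([(nat_lit 1), (nat_lit 5), (nat_lit 12), (nat_lit 15), (nat_lit 6), (nat_lit 2), (nat_lit 11), (nat_lit 15), (nat_lit 12), (nat_lit 15), (nat_lit 6), (nat_lit 2), (nat_lit 11), (nat_lit 15), (nat_lit 12), (nat_lit 15), (nat_lit 6), (nat_lit 2), (nat_lit 11), (nat_lit 15), (nat_lit 12), (nat_lit 16)], (nat_lit 55)), ([(nat_lit 1), (nat_lit 5), (nat_lit 12), (nat_lit 15), (nat_lit 6), (nat_lit 2), (nat_lit 11), (nat_lit 15), (nat_lit 12), (nat_lit 15), (nat_lit 6), (nat_lit 2), (nat_lit 11), (nat_lit 15), (nat_lit 12), (nat_lit 16)], (nat_lit 55)), ([(nat_lit 1), (nat_lit 5), (nat_lit 12), (nat_lit 15), (nat_lit 6), (nat_lit 2), (nat_lit 11), (nat_lit 15), (nat_lit 12), (nat_lit 16)], (nat_lit 55)), ([(nat_lit 1), (nat_lit 5), (nat_lit 12), (nat_lit 16)], (nat_lit 55)), ([], (nat_lit 75))],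
  [([(nat_lit 6), (nat_lit 2), (nat_lit 12), (nat_lit 15), (nat_lit 11), (nat_lit 15), (nat_lit 6), (nat_lit 2), (nat_lit 12), (nat_lit 15), (nat_lit 11), (nat_lit 15), (nat_lit 6), (nat_lit 2), (nat_lit 12), (nat_lit 15), (nat_lit 11), (nat_lit 16)], (nat_lit 55)), ([(nat_lit 6), (nat_lit 2), (nat_lit 12), (nat_lit 15), (nat_lit 11), (nat_lit 15), (nat_lit 6), (nat_lit 2), (nat_lit 12), (nat_lit 15), (nat_lit 11), (nat_lit 16)], (nat_lit 55)), ([(nat_lit 6), (nat_lit 2), (nat_lit 12), (nat_lit 15), (nat_lit 11), (nat_lit 16)], (nat_lit 55)), ([(nat_lit 16), (nat_lit 16)], (nat_lit 55)), ([(nat_lit 16)], (nat_lit 76))],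
  [([(nat_lit 11), (nat_lit 15), (nat_lit 6), (nat_lit 2), (nat_lit 12), (nat_lit 15), (nat_lit 11), (nat_lit 15), (nat_lit 6), (nat_lit 2), (nat_lit 12), (nat_lit 15), (nat_lit 11), (nat_lit 16)], (nat_lit 55)), ([(nat_lit 11), (nat_lit 15), (nat_lit 6), (nat_lit 2), (nat_lit 12), (nat_lit 15), (nat_lit 11), (nat_lit 16)], (nat_lit 55)), ([(nat_lit 11), (nat_lit 16)], (nat_lit 55)), ([(nat_lit 16), (nat_lit 11), (nat_lit 1), (nat_lit 5), (nat_lit 16), (nat_lit 16)], (nat_lit 55)), ([(nat_lit 16), (nat_lit 11), (nat_lit 1), (nat_lit 5), (nat_lit 16)], (nat_lit 76))],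
  [([(nat_lit 6), (nat_lit 2), (nat_lit 12), (nat_lit 15), (nat_lit 11), (nat_lit 15), (nat_lit 6), (nat_lit 2), (nat_lit 12), (nat_lit 15), (nat_lit 11), (nat_lit 16)], (nat_lit 55)), ([(nat_lit 6), (nat_lit 2), (nat_lit 12), (nat_lit 15), (nat_lit 11), (nat_lit 16)], (nat_lit 55)), ([(nat_lit 16), (nat_lit 16)], (nat_lit 55)), ([(nat_lit 16), (nat_lit 12), (nat_lit 16), (nat_lit 11), (nat_lit 1), (nat_lit 5), (nat_lit 16), (nat_lit 16)], (nat_lit 55)), ([(nat_lit 16), (nat_lit 12), (nat_lit 16), (nat_lit 11), (nat_lit 1), (nat_lit 5), (nat_lit 16)], (nat_lit 76))],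
  [([(nat_lit 11), (nat_lit 15), (nat_lit 6), (nat_lit 2), (nat_lit 12), (nat_lit 15), (nat_lit 11), (nat_lit 16)], (nat_lit 55)), ([(nat_lit 11), (nat_lit 16)], (nat_lit 55)), ([(nat_lit 16), (nat_lit 11), (nat_lit 1), (nat_lit 5), (nat_lit 16), (nat_lit 16)], (nat_lit 55)), ([(nat_lit 16), (nat_lit 11), (nat_lit 1), (nat_lit 5), (nat_lit 16), (nat_lit 12), (nat_lit 16), (nat_lit 11), (nat_lit 1), (nat_lit 5), (nat_lit 16), (nat_lit 16)], (nat_lit 55)), ([(nat_lit 16), (nat_lit 11), (nat_lit 1), (nat_lit 5), (nat_lit 16), (nat_lit 12), (nat_lit 16), (nat_lit 11), (nat_lit 1), (nat_lit 5), (nat_lit 16)], (nat_lit 76))],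
  [([(nat_lit 6), (nat_lit 2), (nat_lit 12), (nat_lit 15), (nat_lit 11), (nat_lit 16)], (nat_lit 55)), ([(nat_lit 16), (nat_lit 16)], (nat_lit 55)), ([(nat_lit 16), (nat_lit 12), (nat_lit 16), (nat_lit 11), (nat_lit 1), (nat_lit 5), (nat_lit 16), (nat_lit 16)], (nat_lit 55)), ([(nat_lit 16), (nat_lit 12), (nat_lit 16), (nat_lit 11), (nat_lit 1), (nat_lit 5), (nat_lit 16), (nat_lit 12), (nat_lit 16), (nat_lit 11), (nat_lit 1), (nat_lit 5), (nat_lit 16), (nat_lit 16)], (nat_lit 55)), ([(nat_lit 16), (nat_lit 12), (nat_lit 16), (nat_lit 11), (nat_lit 1), (nat_lit 5), (nat_lit 16), (nat_lit 12), (nat_lit 16), (nat_lit 11), (nat_lit 1), (nat_lit 5), (nat_lit 16)], (nat_lit 76))],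
  [([(nat_lit 11), (nat_lit 16)], (nat_lit 55)), ([(nat_lit 16), (nat_lit 11), (nat_lit 1), (nat_lit 5), (nat_lit 16), (nat_lit 16)], (nat_lit 55)), ([(nat_lit 16), (nat_lit 11), (nat_lit 1), (nat_lit 5), (nat_lit 16), (nat_lit 12), (nat_lit 16), (nat_lit 11), (nat_lit 1), (nat_lit 5), (nat_lit 16), (nat_lit 16)], (nat_lit 55)), ([(nat_lit 16), (nat_lit 11), (nat_lit 1), (nat_lit 5), (nat_lit 16), (nat_lit 12), (nat_lit 16), (nat_lit 11), (nat_lit 1), (nat_lit 5), (nat_lit 16), (nat_lit 12), (nat_lit 16), (nat_lit 11), (nat_lit 1), (nat_lit 5), (nat_lit 16), (nat_lit 16)], (nat_lit 55)), ([(nat_lit 16), (nat_lit 11), (nat_lit 1), (nat_lit 5), (nat_lit 16), (nat_lit 12), (nat_lit 16), (nat_lit 11), (nat_lit 1), (nat_lit 5), (nat_lit 16), (nat_lit 12), (nat_lit 16), (nat_lit 11), (nat_lit 1), (nat_lit 5), (nat_lit 16)], (nat_lit 76))],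
  [([(nat_lit 16), (nat_lit 16)], (nat_lit 55)), ([(nat_lit 16), (nat_lit 12), (nat_lit 16), (nat_lit 11), (nat_lit 1), (nat_lit 5), (nat_lit 16), (nat_lit 16)], (nat_lit 55)), ([(nat_lit 16), (nat_lit 12), (nat_lit 16), (nat_lit 11), (nat_lit 1), (nat_lit 5), (nat_lit 16), (nat_lit 12), (nat_lit 16), (nat_lit 11), (nat_lit 1), (nat_lit 5), (nat_lit 16), (nat_lit 16)], (nat_lit 55)), ([(nat_lit 16), (nat_lit 12), (nat_lit 16), (nat_lit 11), (nat_lit 1), (nat_lit 5), (nat_lit 16), (nat_lit 12), (nat_lit 16), (nat_lit 11), (nat_lit 1), (nat_lit 5), (nat_lit 16), (nat_lit 12), (nat_lit 16), (nat_lit 11), (nat_lit 1), (nat_lit 5), (nat_lit 16), (nat_lit 16)], (nat_lit 55)), ([(nat_lit 16), (nat_lit 12), (nat_lit 16), (nat_lit 11), (nat_lit 1), (nat_lit 5), (nat_lit 16), (nat_lit 12), (nat_lit 16), (nat_lit 11), (nat_lit 1), (nat_lit 5), (nat_lit 16), (nat_lit 12), (nat_lit 16), (nat_lit 11), (nat_lit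 1), (nat_lit 5), (nat_lit 16)], (nat_lit 76))],
  [([(nat_lit 16), (nat_lit 11), (nat_lit 1), (nat_lit 5), (nat_lit 16), (nat_lit 16)], (nat_lit 55)), ([(nat_lit 16), (nat_lit 11), (nat_lit 1), (nat_lit 5), (nat_lit 16), (nat_lit 12), (nat_lit 16), (nat_lit 11), (nat_lit 1), (nat_lit 5), (nat_lit 16), (nat_lit 16)], (nat_lit 55)), ([(nat_lit 16), (nat_lit 11), (nat_lit 1), (nat_lit 5), (nat_lit 16), (nat_lit 12), (nat_lit 16), (nat_lit 11), (nat_lit 1), (nat_lit 5), (nat_lit 16), (nat_lit 12), (nat_lit 16), (nat_lit 11), (nat_lit 1), (nat_lit 5), (nat_lit 16), (nat_lit 16)], (nat_lit 55)), ([(nat_lit 16), (nat_lit 11), (nat_lit 1), (nat_lit 5), (nat_lit 16), (nat_lit 12), (nat_lit 16), (nat_lit 11), (nat_lit 1), (nat_lit 5), (nat_lit 16), (nat_lit 12), (nat_lit 16), (nat_lit 11), (nat_lit 1), (nat_lit 5), (nat_lit 16), (nat_lit 12), (nat_lit 16), (nat_lit 11), (nat_lit 1), (nat_lit 5), (nat_lit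 16), (nat_lit 16)], (nat_lit 55)), ([(nat_lit 16), (nat_lit 11), (nat_lit 1), (nat_lit 5), (nat_lit 16), (nat_lit 12), (nat_lit 16), (nat_lit 11), (nat_lit 1), (nat_lit 5), (nat_lit 16), (nat_lit 12), (nat_lit 16), (nat_lit 11), (nat_lit 1), (nat_lit 5), (nat_lit 16), (nat_lit 12), (nat_lit 16), (nat_lit 11), (nat_lit 1), (nat_lit 5), (nat_lit 16)], (nat_lit 76))],
  [([(nat_lit 16), (nat_lit 11), (nat_lit 11), (nat_lit 8)], (nat_lit 77))],
  [([(nat_lit 16), (nat_lit 11), (nat_lit 11), (nat_lit 8), (nat_lit 12), (nat_lit 12), (nat_lit 16), (nat_lit 11), (nat_lit 11), (nat_lit 8)], (nat_lit 77))],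
  [([(nat_lit 16), (nat_lit 11), (nat_lit 11), (nat_lit 8), (nat_lit 12), (nat_lit 12), (nat_lit 16), (nat_lit 11), (nat_lit 11), (nat_lit 8), (nat_lit 12), (nat_lit 12), (nat_lit 16), (nat_lit 11), (nat_lit 11), (nat_lit 8)], (nat_lit 77))],
  [([(nat_lit 16), (nat_lit 11), (nat_lit 11), (nat_lit 8), (nat_lit 12), (nat_lit 12), (nat_lit 16), (nat_lit 11), (nat_lit 11), (nat_lit 8), (nat_lit 12), (nat_lit 12), (nat_lit 16), (nat_lit 11), (nat_lit 11), (nat_lit 8), (nat_lit 12), (nat_lit 12), (nat_lit 16), (nat_lit 11), (nat_lit 11), (nat_lit 8)], (nat_lit 77))],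
  [([(nat_lit 6), (nat_lit 2), (nat_lit 11), (nat_lit 11), (nat_lit 8), (nat_lit 12), (nat_lit 12), (nat_lit 15), (nat_lit 6), (nat_lit 2), (nat_lit 11), (nat_lit 11), (nat_lit 8), (nat_lit 12), (nat_lit 12), (nat_lit 15), (nat_lit 6), (nat_lit 2), (nat_lit 11), (nat_lit 11), (nat_lit 8), (nat_lit 12), (nat_lit 12), (nat_lit 16)], (nat_lit 55)), ([(nat_lit 6), (nat_lit 2), (nat_lit 11), (nat_lit 11), (nat_lit 8), (nat_lit 12), (nat_lit 12), (nat_lit 15), (nat_lit 6), (nat_lit 2), (nat_lit 11), (nat_lit 11), (nat_lit 8), (nat_lit 12), (nat_lit 12), (nat_lit 16)], (nat_lit 55)), ([(nat_lit 6), (nat_lit 2), (nat_lit 11), (nat_lit 11), (nat_lit 8), (nat_lit 12), (nat_lit 12), (nat_lit 16)], (nat_lit 55)), ([(nat_lit 16), (nat_lit 16)], (nat_lit 55)), ([(nat_lit 16), (nat_lit 10), (nat_lit 8), (nat_lit 6), (nat_lit 7), (nat_lit 9), (nat_lit 11), (nat_lit 11), (nat_lit 11), (nat_lit 10), (nat_lit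 8), (nat_lit 6), (nat_lit 7), (nat_lit 9), (nat_lit 12), (nat_lit 8), (nat_lit 6), (nat_lit 7), (nat_lit 6), (nat_lit 2)], (nat_lit 78))],
  [([(nat_lit 6), (nat_lit 2), (nat_lit 11), (nat_lit 11), (nat_lit 8), (nat_lit 12), (nat_lit 12), (nat_lit 15), (nat_lit 6), (nat_lit 2), (nat_lit 11), (nat_lit 11), (nat_lit 8), (nat_lit 12), (nat_lit 12), (nat_lit 16)], (nat_lit 55)), ([(nat_lit 6), (nat_lit 2), (nat_lit 11), (nat_lit 11), (nat_lit 8), (nat_lit 12), (nat_lit 12), (nat_lit 16)], (nat_lit 55)), ([(nat_lit 16), (nat_lit 16)], (nat_lit 55)), ([(nat_lit 16), (nat_lit 11), (nat_lit 11), (nat_lit 7), (nat_lit 12), (nat_lit 12), (nat_lit 1), (nat_lit 5), (nat_lit 16), (nat_lit 16)], (nat_lit 55)), ([(nat_lit 16), (nat_lit 11), (nat_lit 11), (nat_lit 7), (nat_lit 12), (nat_lit 12), (nat_lit 1), (nat_lit 5), (nat_lit 16), (nat_lit 10), (nat_lit 8), (nat_lit 6), (nat_lit 7), (nat_lit 9), (nat_lit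 11), (nat_lit 11), (nat_lit 11), (nat_lit 10), (nat_lit 8), (nat_lit 6), (nat_lit 7), (nat_lit 9), (nat_lit 12), (nat_lit 8), (nat_lit 6), (nat_lit 7), (nat_lit 6), (nat_lit 2)], (nat_lit 78))],
  [([(nat_lit 6), (nat_lit 2), (nat_lit 11), (nat_lit 11), (nat_lit 8), (nat_lit 12), (nat_lit 12), (nat_lit 16)], (nat_lit 55)), ([(nat_lit 16), (nat_lit 16)], (nat_lit 55)), ([(nat_lit 16), (nat_lit 11), (nat_lit 11), (nat_lit 7), (nat_lit 12), (nat_lit 12), (nat_lit 1), (nat_lit 5), (nat_lit 16), (nat_lit 16)], (nat_lit 55)), ([(nat_lit 16), (nat_lit 11), (nat_lit 11), (nat_lit 7), (nat_lit 12), (nat_lit 12), (nat_lit 1), (nat_lit 5), (nat_lit 16), (nat_lit 11), (nat_lit 11), (nat_lit 7), (nat_lit 12), (nat_lit 12), (nat_lit 1), (nat_lit 5), (nat_lit 16), (nat_lit 16)], (nat_lit 55)), ([(nat_lit 16), (nat_lit 11), (nat_lit 11), (nat_lit 7), (nat_lit 12), (nat_lit 12), (nat_lit 1), (nat_lit 5), (nat_lit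 16), (nat_lit 11), (nat_lit 11), (nat_lit 7), (nat_lit 12), (nat_lit 12), (nat_lit 1), (nat_lit 5), (nat_lit 16), (nat_lit 10), (nat_lit 8), (nat_lit 6), (nat_lit 7), (nat_lit 9), (nat_lit 11), (nat_lit 11), (nat_lit 11), (nat_lit 10), (nat_lit 8), (nat_lit 6), (nat_lit 7), (nat_lit 9), (nat_lit 12), (nat_lit 8), (nat_lit 6), (nat_lit 7), (nat_lit 6), (nat_lit 2)], (nat_lit 78))],
  [([(nat_lit 16), (nat_lit 16)], (nat_lit 55)), ([(nat_lit 16), (nat_lit 11), (nat_lit 11), (nat_lit 7), (nat_lit 12), (nat_lit 12), (nat_lit 1), (nat_lit 5), (nat_lit 16), (nat_lit 16)], (nat_lit 55)), ([(nat_lit 16), (nat_lit 11), (nat_lit 11), (nat_lit 7), (nat_lit 12), (nat_lit 12), (nat_lit 1), (nat_lit 5), (nat_lit 16), (nat_lit 11), (nat_lit 11), (nat_lit 7), (nat_lit 12), (nat_lit 12), (nat_lit 1), (nat_lit 5), (nat_lit 16), (nat_lit 16)], (nat_lit 55)), ([(nat_lit 16), (nat_lit 11), (nat_lit 11), (nat_lit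 7), (nat_lit 12), (nat_lit 12), (nat_lit 1), (nat_lit 5), (nat_lit 16), (nat_lit 11), (nat_lit 11), (nat_lit 7), (nat_lit 12), (nat_lit 12), (nat_lit 1), (nat_lit 5), (nat_lit 16), (nat_lit 11), (nat_lit 11), (nat_lit 7), (nat_lit 12), (nat_lit 12), (nat_lit 1), (nat_lit 5), (nat_lit 16), (nat_lit 16)], (nat_lit 55)), ([(nat_lit 16), (nat_lit 11), (nat_lit 11), (nat_lit 7), (nat_lit 12), (nat_lit 12), (nat_lit 1), (nat_lit 5), (nat_lit 16), (nat_lit 11), (nat_lit 11), (nat_lit 7), (nat_lit 12), (nat_lit 12), (nat_lit 1), (nat_lit 5), (nat_lit 16), (nat_lit 11), (nat_lit 11), (nat_lit 7), (nat_lit 12), (nat_lit 12), (nat_lit 1), (nat_lit 5), (nat_lit 16), (nat_lit 10), (nat_lit 8), (nat_lit 6), (nat_lit 7), (nat_lit 9), (nat_lit 11), (nat_lit 11), (nat_lit 11), (nat_lit 10), (nat_lit 8), (nat_lit 6), (nat_lit 7), (nat_lit 9), (nat_lit 12), (nat_lit 8), (nat_lit 6), (nat_lit 7), (nat_lit 6),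 (nat_lit 2)], (nat_lit 78))]]
noncomputable def cH : List (List (List Nat × Nat)) := [[([(nat_lit 1), (nat_lit 5)], (nat_lit 79)), ([], (nat_lit 56))],
  [([(nat_lit 1), (nat_lit 5)], (nat_lit 81)), ([], (nat_lit 56))],
  [([(nat_lit 1), (nat_lit 5)], (nat_lit 83)), ([], (nat_lit 56))]]
noncomputable def mu : Nat → Nat → Nat := mul2 (nat_lit 26) (nat_lit 0x4000001000000400000100000040000010000004000001000000400000100000040000010000004000001000000400000100000040000010000004000001000000400000100000040000010000004000001) (nat_lit 67108863)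
noncomputable def e26 : Nat := (nat_lit 0x8000001000000200000040000008000001000000200000040000008000001000000200000040000008000001000000200000040000008000001000000200000040000008000001000000200000040000008000001)
noncomputable def L26 : List Nat := [(nat_lit 0x8000001000000200000040000008000001000000200000040000008000001000000200000040000008000001000000200000040000008000001000000200000040000008000001000000200000040000008000001),
  (nat_lit 0x80000010000000400000080000010000080000010000002000000080000010000002000202100040420020240004048000000400002140000860000002030080a0c02030003048800c1243038482c0e1213038481),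
  (nat_lit 0x80000010000000400000080000010000080000010000002000000080000010000002000202100040420020240004048000000400002140000860000002030080a0c02030003048800c1243038482c0e1213038481),
  (nat_lit 0x8000001000000200000040000008000009000001200000240000008000001000000200000040000008002025000404a0000004000000800008700000020000004000003800000100000060e062543818944e06252),
  (nat_lit 0x8000001000000200000040000008000009000001200000240000008000001000000200000040000008002025000404a0000004000000800008700000020000004000003800000100000060e062543818944e06252),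
  (nat_lit 0x8000001000000442000008800081000018080001020002200000b614001b428000020001d84000ed280030240008068000fc8300ff00803008600db201826c80404000301e06244b838909e06250b838920e06241),
  (nat_lit 0x8000001000000442000008800081000018080001020002200000b614001b428000020001d84000ed280030240008068000fc8300ff00803008600db201826c80404000301e06244b838909e06250b838920e06241),
  (nat_lit 0x40000020000180000040000030000000c0000020000018000040000020000000001000402000101000008080002040000080001000800080100000020040009002002204000c002002800800841000208000081),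
  (nat_lit 0x40000020000180000040000030000000c0000020000018000040000020000000001000402000101000008080002040000080001000800080100000020040009002002204000c002002800800841000208000081),
  (nat_lit 0x800000100000020000028240006048000100000040400010080040800020100000020003c20000e8400001800000500003030080e0e010310802000c1000838200c42040080001004000211080046020009008001),
  (nat_lit 0x800000100000020000028240006048000100000040400010080040800020100000020003c20000e8400001800000500003030080e0e010310802000c1000838200c42040080001004000211080046020009008001),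
  (nat_lit 0x200020000008090002224000a09000000100001040001010000081000020000c000002004200101000000110002040000100000098000001800808020000404080040820240108004022001004009000a000001),
  (nat_lit 0x4000001008000280000181200030000001400000402000180000004000000040080000018100006000800100000040040003000020500001010004040201810040440008080001044000211000046000009000001),
  (nat_lit 0xc0000020000004848000a00000889000004080005000000410000040000030000c02000321000098c00000400000300000030400c8c08000401004080201220040410008020001041000210400044800009000001),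
  (nat_lit 0x400000300000090900030360008090000081000000600000100000c000002000080200032140006010000041000040400001040000d0800001100c0c0201014040c004082024010c004023001004409000b000001)]

end CF.Dce.Th
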